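import Groth.Prelude.Def_Coh
import Groth.Prelude.Def_CAlg
import Groth.Prelude.Def_Curv2
import Groth.Agent.GenusZeroLib.Mult
import Groth.Agent.AssPointLib.S1
import Groth.Agent.MiscFlat6.ClosedPts
import Groth.Agent.DimIneqLib.Dim
import Groth.Agent.CMFlatLib.Open
import Groth.Agent.EquidimLib.OpenComponent

/-!
# A proper one-dimensional scheme with `h⁰(O) = 1` is Cohen–Macaulay and equidimensional
-/

set_option autoImplicit false
set_option linter.style.haveILetI false
universe u

open CategoryTheory AlgebraicGeometry TopologicalSpace Opposite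

namespace CurveDualModLib

variable {k : Type u} [Field k] {X : Scheme.{u}} [X.Over (Spec (CommRingCat.of k))]
  [IsProper (X ↘ Spec (CommRingCat.of k))]

/-- With `h⁰(O) = 1`, a global function vanishing somewhere is zero. -/
theorem eq_zero_of_germ (h0 : Module.finrank k (Coh.HH X (Coh.structureModule X) 0) = 1)
    (c : Γ(X, ⊤)) (y : X) (hy : X.presheaf.germ ⊤ y trivial c = 0) : c = 0 := by
  letI := GenusZeroLib.kmod k (Coh.structureModule X)
  have h : Module.finrank k Γ(Coh.structureModule X, ⊤) = 1 :=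
    (GenusZeroLib.e0k k (Coh.structureModule X)).finrank_eq.symm.trans h0
  have h1 : (1 : Γ(X, ⊤)) ≠ 0 := fun h1 => one_ne_zero (α := X.presheaf.stalk y) <| by
    rw [← map_one (X.presheaf.germ ⊤ y trivial).hom, h1, map_zero]
  obtain ⟨r, hr⟩ := (finrank_eq_one_iff_of_nonzero' (show Γ(Coh.structureModule X, ⊤) from (1 : Γ(X, ⊤))) h1).mp h c
  have hr' : GenusZeroLib.ρ k r * 1 = c := hr
  rw [mul_one] at hr'
  rcases eq_or_ne r 0 with rfl | hr0
  · rw [← hr', map_zero]
  · have hu : IsUnit (X.presheaf.germ ⊤ y trivial c) := by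
      rw [← hr']
      exact ((IsUnit.mk0 r hr0).map _).map _
    rw [hy] at hu
    exact absurd hu not_isUnit_zero

theorem exists_ne (hdim : topologicalKrullDim X = 1) (x : X) : ∃ y : X, y ≠ x := by
  by_contra hc
  simp only [not_exists, not_not] at hc
  haveI : Subsingleton (IrreducibleCloseds X) := ⟨fun a b => IrreducibleCloseds.ext (Set.ext fun z => by
    obtain ⟨za, hza⟩ := a.isIrreducible.nonempty
    obtain ⟨zb, hzb⟩ := b.isIrreducible.nonempty
    rw [hc z]; rw [hc za] at hza; rw [hc zb] at hzb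
    exact ⟨fun _ => hzb, fun _ => hza⟩)⟩
  have hd : topologicalKrullDim X ≤ 0 := Order.krullDim_nonpos_of_subsingleton
  rw [hdim] at hd
  exact absurd hd (not_le.mpr zero_lt_one)

/-- A local function supported at one closed point has zero germ there. -/
theorem germ_eq_zero_of_isolated (h0 : Module.finrank k (Coh.HH X (Coh.structureModule X) 0) = 1)
    (hdim : topologicalKrullDim X = 1) {x : X} (hx : IsClosed ({x} : Set X)) {U : X.Opens} (hxU : x ∈ U)
    (s : Γ(X, U)) (hs : ∀ (y : X) (hy : y ∈ U), y ≠ x → X.presheaf.germ U y hy s = 0) :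
    X.presheaf.germ U x hxU s = 0 := by
  let Uc : X.Opens := ⟨{x}ᶜ, hx.isOpen_compl⟩
  let UU : Bool → X.Opens := fun b => bif b then U else Uc
  let sf : ∀ b, Γ(X, UU b) := fun b => match b with
    | true => s
    | false => 0
  have hcompat : TopCat.Presheaf.IsCompatible X.presheaf UU sf := by
    intro a b
    refine TopCat.Presheaf.section_ext X.sheaf _ _ _ fun y hy => ?_
    refine (TopCat.Presheaf.germ_res_apply X.presheaf _ y hy _).trans ((TopCat.Presheaf.germ_res_apply X.presheaf _ y hy _).trans ?_).symm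
    refine Eq.symm ?_
    have key : ∀ (c : Bool) (hyc : y ∈ UU c), y ≠ x → X.presheaf.germ (UU c) y hyc (sf c) = 0 := by
      rintro (_ | _) hyc hne
      · exact map_zero _
      · exact hs y hyc hne
    cases a <;> cases b
    · rfl
    · exact (key false hy.1 hy.1).trans (key true hy.2 hy.1).symm
    · exact (key true hy.1 hy.2).trans (key false hy.2 hy.2).symm
    · rfl
  obtain ⟨t, ht, -⟩ := X.sheaf.existsUnique_gluing' UU ⊤ (fun b => homOfLE le_top) (fun y _ => by
    by_cases hy : y = x
    · exact Opens.mem_iSup.2 ⟨true, hy ▸ hxU⟩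
    · exact Opens.mem_iSup.2 ⟨false, hy⟩) sf hcompat
  obtain ⟨y, hy⟩ := exists_ne hdim x
  have h1 : t = 0 := eq_zero_of_germ (k := k) h0 t y (by
    have := congrArg (X.presheaf.germ (UU false) y hy) (ht false)
    refine Eq.trans ?_ (this.trans (map_zero _))
    exact (TopCat.Presheaf.germ_res_apply X.presheaf _ y hy t).symm)
  have := congrArg (X.presheaf.germ (UU true) x hxU) (ht true)
  refine this.symm.trans ((TopCat.Presheaf.germ_res_apply X.presheaf _ x hxU t).trans ?_)
  rw [h1]; exact map_zero _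

theorem not_isOpen_singleton (h0 : Module.finrank k (Coh.HH X (Coh.structureModule X) 0) = 1)
    (hdim : topologicalKrullDim X = 1) {x : X} (hx : IsClosed ({x} : Set X)) :
    ¬ IsOpen ({x} : Set X) := fun ho => one_ne_zero (α := X.presheaf.stalk x) <| by
  have := germ_eq_zero_of_isolated (k := k) h0 hdim hx (U := ⟨{x}, ho⟩) (Set.mem_singleton x) 1
    fun y hy hne => absurd hy hne
  rwa [map_one] at this

/-- Every component has dimension one. -/
theorem equidim (h0 : Module.finrank k (Coh.HH X (Coh.structureModule X) 0) = 1)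
    (hdim : topologicalKrullDim X = 1) :
    ∀ Z ∈ irreducibleComponents (X : Type u), topologicalKrullDim Z = 1 := by
  intro Z hZ
  haveI : IsLocallyNoetherian X := LocallyOfFiniteType.isLocallyNoetherian (X ↘ Spec (CommRingCat.of k))
  haveI : CompactSpace X := QuasiCompact.compactSpace_of_compactSpace (X ↘ Spec (CommRingCat.of k))
  haveI : AlgebraicGeometry.IsNoetherian X := ⟨⟩
  haveI : NoetherianSpace X := inferInstance
  refine le_antisymm ((topologicalKrullDim_subspace_le X _).trans hdim.le) ?_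
  have hZc := isClosed_of_mem_irreducibleComponents _ hZ
  obtain ⟨η, hη⟩ := QuasiSober.sober hZ.1 hZc
  by_cases hp : ∃ z ∈ Z, z ≠ η
  · obtain ⟨z, hz, hne⟩ := hp
    haveI : Nonempty Z := ⟨⟨z, hz⟩⟩
    let a : IrreducibleCloseds Z := ⟨closure {⟨z, hz⟩}, isIrreducible_singleton.closure, isClosed_closure⟩
    let b : IrreducibleCloseds Z := ⟨Set.univ, by
      haveI : IrreducibleSpace Z := Subtype.irreducibleSpace hZ.1
      exact IrreducibleSpace.isIrreducible_univ Z, isClosed_univ⟩
    have hab : a < b := by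
      refine lt_of_le_of_ne (fun y _ => trivial) fun h => ?_
      have hmem : (⟨η, hη.mem⟩ : Z) ∈ closure ({⟨z, hz⟩} : Set Z) := by
        rw [show closure ({⟨z, hz⟩} : Set Z) = Set.univ from congrArg (fun c : IrreducibleCloseds Z => (c : Set Z)) h]
        trivial
      have hsp : (⟨z, hz⟩ : Z) ⤳ ⟨η, hη.mem⟩ := specializes_iff_mem_closure.2 hmem
      exact hne ((hsp.map continuous_subtype_val).antisymm (hη.specializes hz)).eq
    exact Order.LTSeries.length_le_krullDim ((RelSeries.singleton _ b).cons a hab)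
  · simp only [not_exists, not_and, not_not] at hp
    have hZs : Z = {η} := Set.eq_singleton_iff_unique_mem.2 ⟨hη.mem, hp⟩
    exfalso
    refine not_isOpen_singleton (k := k) h0 hdim (x := η) (hZs ▸ hZc) ?_
    obtain ⟨o, ho, hne, hsub⟩ := NoetherianSpace.exists_isOpen_nonempty_subset_irreducibleComponent Z hZ
    rw [hZs] at hsub
    rcases Set.subset_singleton_iff_eq.1 hsub with h | h
    · exact absurd h hne.ne_empty
    · exact h ▸ ho

/-- **Cohen–Macaulay.** -/
theorem isCM (h0 : Module.finrank k (Coh.HH X (Coh.structureModule X) 0) = 1)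
    (hdim : topologicalKrullDim X = 1) :
    ∀ x : X, LocCoh.IsCohenMacaulayLocalRing (X.presheaf.stalk x) := by
  classical
  haveI : IsLocallyNoetherian X := LocallyOfFiniteType.isLocallyNoetherian (X ↘ Spec (CommRingCat.of k))
  refine MiscFlat6.isCohenMacaulayLocalRing_stalk_iff.2 fun x hx => ?_
  rw [CMFlatLib.isCohenMacaulayLocalRing_iff_isCM]
  let R := X.presheaf.stalk x
  have hass : ¬ IsAssociatedPrime (IsLocalRing.maximalIdeal R) R := by
    intro hass
    obtain ⟨-, a, ha⟩ := isAssociatedPrime_iff.1 hass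
    have hkill : ∀ r ∈ IsLocalRing.maximalIdeal R, r * a = 0 := fun r hr => by
      rw [ha, Submodule.mem_colon_singleton, Submodule.mem_bot] at hr
      exact hr
    have ha0 : a ≠ 0 := fun h => by
      rw [h] at ha
      exact (IsLocalRing.maximalIdeal.isMaximal R).ne_top (by rw [ha]; ext; simp)
    obtain ⟨U, hU, hxU⟩ := QCohLib.exists_affine_nhd x
    obtain ⟨V, hxV, hVU, s, rfl⟩ : ∃ (V : X.Opens) (hxV : x ∈ V) (_ : V ≤ U) (s : Γ(X, V)),
        X.presheaf.germ V x hxV s = a := by
      obtain ⟨V, hxV, s, hs⟩ := X.presheaf.exists_germ_eq a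
      refine ⟨V ⊓ U, ⟨hxV, hxU⟩, inf_le_right, X.presheaf.map (homOfLE inf_le_left).op s, ?_⟩
      rw [TopCat.Presheaf.germ_res_apply]
      exact hs
    haveI : IsNoetherianRing Γ(X, U) := IsLocallyNoetherian.component_noetherian ⟨U, hU⟩
    obtain ⟨T, hT⟩ := IsNoetherian.noetherian (hU.primeIdealOf ⟨x, hxU⟩).asIdeal
    have hW : ∀ f : T, ∃ (W : X.Opens) (_ : x ∈ W) (hWV : W ≤ V),
        X.presheaf.map (homOfLE hWV).op (X.presheaf.map (homOfLE hVU).op f.1 * s) = 0 := by
      intro f
      have hfm : X.presheaf.germ U x hxU f.1 ∈ IsLocalRing.maximalIdeal R := by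
        let alg := X.presheaf.algebra_section_stalk (⟨x, hxU⟩ : U)
        have hloc : IsLocalization.AtPrime (X.presheaf.stalk x) (hU.primeIdealOf ⟨x, hxU⟩).asIdeal :=
          hU.isLocalization_stalk ⟨x, hxU⟩
        exact (IsLocalization.AtPrime.to_map_mem_maximal_iff (X.presheaf.stalk x) _ f.1).mpr
          (hT.le (Submodule.subset_span f.2))
      have hz : X.presheaf.germ V x hxV (X.presheaf.map (homOfLE hVU).op f.1 * s) =
          X.presheaf.germ V x hxV 0 := by
        rw [map_mul, TopCat.Presheaf.germ_res_apply, map_zero]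
        exact hkill _ hfm
      obtain ⟨W, hxW, i₁, i₂, hi⟩ := X.presheaf.germ_eq x hxV hxV _ _ hz
      exact ⟨W, hxW, i₁.le, hi.trans (map_zero _)⟩
    choose W hxW hWV hWs using hW
    let W₀ : X.Opens := (Finset.univ : Finset T).inf W ⊓ V
    have hxW₀ : x ∈ W₀ := ⟨by
      suffices ∀ A : Finset T, x ∈ A.inf W from this _
      intro A
      induction A using Finset.induction with
      | empty => simp
      | insert f A _ ih => rw [Finset.inf_insert]; exact ⟨hxW f, ih⟩, hxV⟩
    apply ha0
    have := germ_eq_zero_of_isolated (k := k) h0 hdim hx hxW₀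
      (X.presheaf.map (homOfLE (inf_le_right : W₀ ≤ V)).op s) fun y hy hne => ?_
    · rwa [TopCat.Presheaf.germ_res_apply] at this
    · rw [TopCat.Presheaf.germ_res_apply]
      have hyU : y ∈ U := hVU hy.2
      obtain ⟨f, hfT, hfy⟩ : ∃ f ∈ T, f ∉ (hU.primeIdealOf ⟨y, hyU⟩).asIdeal := by
        by_contra hc
        simp only [not_exists, not_and, not_not] at hc
        have hle : (hU.primeIdealOf ⟨x, hxU⟩).asIdeal ≤ (hU.primeIdealOf ⟨y, hyU⟩).asIdeal :=
          hT.ge.trans (Submodule.span_le.2 hc)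
        have h := ((PrimeSpectrum.le_iff_specializes _ _).mp hle).map hU.fromSpec.continuous
        rw [hU.fromSpec_primeIdealOf, hU.fromSpec_primeIdealOf] at h
        exact hne (h.mem_closed hx rfl)
      let alg := X.presheaf.algebra_section_stalk (⟨y, hyU⟩ : U)
      have hloc : IsLocalization.AtPrime (X.presheaf.stalk y) (hU.primeIdealOf ⟨y, hyU⟩).asIdeal :=
        hU.isLocalization_stalk ⟨y, hyU⟩
      have hu : IsUnit (X.presheaf.germ U y hyU f) :=
        IsLocalization.map_units (X.presheaf.stalk y) (⟨f, hfy⟩ : (hU.primeIdealOf ⟨y, hyU⟩).asIdeal.primeCompl)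
      have hyW : y ∈ W ⟨f, hfT⟩ := Finset.inf_le (f := W) (Finset.mem_univ _) hy.1
      have := congrArg (X.presheaf.germ (W ⟨f, hfT⟩) y hyW) (hWs ⟨f, hfT⟩)
      rw [map_zero, TopCat.Presheaf.germ_res_apply, map_mul, TopCat.Presheaf.germ_res_apply] at this
      exact hu.mul_right_eq_zero.1 this
  have hd : ringKrullDim R ≤ ((1 : ℕ) : WithBot ℕ∞) :=
    (DimIneqLib.stalk_dim_le_dim x).trans hdim.le
  obtain ⟨r, hr, hreg⟩ : ∃ r ∈ IsLocalRing.maximalIdeal R, IsSMulRegular R r := by
    by_contra hc
    simp only [not_exists, not_and] at hc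
    have hsub : (IsLocalRing.maximalIdeal R : Set R) ⊆ ⋃ p ∈ associatedPrimes R R, p := fun r hr =>
      (biUnion_associatedPrimes_eq_compl_regular R R).ge (hc r hr)
    obtain ⟨p, hp, hle⟩ := (Ideal.subset_union_prime_finite (associatedPrimes.finite R R) ⊥ ⊥
      (fun p hp _ _ => hp.isPrime)).mp hsub
    exact hass ((IsLocalRing.maximalIdeal.isMaximal R).eq_of_le hp.isPrime.ne_top hle ▸ hp)
  exact CatLib.isCM_of_hasSeqIn ⟨[r], rfl, by simpa using hr,
    (RingTheory.Sequence.isWeaklyRegular_singleton_iff R r).mpr hreg⟩ hd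

end CurveDualModLib
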