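import Groth.Agent.CurveDualModLib.LocalDual
import Groth.Agent.CurveDualModLib.CM
import Groth.Agent.S3637
import Groth.Agent.RefHullLib.EvalStalk
import Groth.Agent.RefHullLib.Reflexive
import Groth.Agent.RefHullLib.Coherent
import Groth.Agent.EquidimLib.DimBetween
import Groth.Prelude.Def_TorSh
import Groth.Prelude.Def_DDual2

/-!
# Biduality into the dualizing module of an integral curve
-/

set_option autoImplicit false
set_option linter.style.haveILetI false
set_option backward.isDefEq.respectTransparency false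
set_option backward.isDefEq.respectTransparency.types false
set_option maxHeartbeats 1000000
set_option synthInstance.maxHeartbeats 200000

universe u

open CategoryTheory CategoryTheory.Limits AlgebraicGeometry TopologicalSpace
open Groth.Agent DTen
open DTenLib.Point (hH sg)

attribute [local instance] HasDerivedCategory.standard

noncomputable section

namespace CurveDualModLib

variable {X : Scheme.{u}}

/-- Evaluation at an element of the stalk. -/
def bidualAtG (F G : X.Modules) (x : X) :
    F.presheaf.stalk x →ₗ[X.presheaf.stalk x] RefHull.StalkHom (RefHull.homSh F G) G x where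
  toFun v := (LinearMap.applyₗ v).comp (RefHull.evalStalk F G x)
  map_add' v w := LinearMap.ext fun θ => map_add (RefHull.evalStalk F G x θ) v w
  map_smul' a v := LinearMap.ext fun θ => map_smul (RefHull.evalStalk F G x θ) a v

/-- The biduality map on sections. -/
def bidualFunG (F G : X.Modules) (U : X.Opens) : Γ(F, U) →+ Γ(RefHull.homSh (RefHull.homSh F G) G, U) where
  toFun s := ⟨fun x => bidualAtG F G x.1 (F.presheaf.germ U x.1 x.2 s), fun V i g x => by
    obtain ⟨W, hW, j, n, w⟩ := RefHull.isLocSect_of_mem g V (𝟙 V) (F.presheaf.map i.op s) x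
    refine ⟨W, hW, j, n, fun y => ?_⟩
    have e := w y
    rw [TopCat.Presheaf.germ_res_apply] at e
    show RefHull.evalStalk F G _ ((RefHull.homSh F G).presheaf.germ V y.1 _ g) _ = _
    rw [RefHull.evalStalk_germ]
    exact e⟩
  map_zero' := Subtype.ext <| funext fun x => by
    simp only [map_zero]
    rfl
  map_add' s t := Subtype.ext <| funext fun x => by
    simp only [map_add]
    rfl

/-- The biduality map into `G`. -/
def bidualMapG (F G : X.Modules) : F ⟶ RefHull.homSh (RefHull.homSh F G) G :=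
  ⟨PresheafOfModules.homMk
    { app := fun U => AddCommGrpCat.ofHom (bidualFunG F G U.unop)
      naturality := fun {U V} i => by
        ext s
        refine Subtype.ext (funext fun x => ?_)
        change bidualAtG F G x.1 _ = bidualAtG F G x.1 _
        exact congrArg _ (TopCat.Presheaf.germ_res_apply' F.presheaf i x.1 x.2 s) }
    (fun U r s => Subtype.ext <| funext fun x =>
      (congrArg (bidualAtG F G x.1) (Mero.germ_smul F U.unop x.1 x.2 r s)).trans
        (map_smul (bidualAtG F G x.1) _ _))⟩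

theorem evalStalk_stalkMap_bidualMapG (F G : X.Modules) (x : X) (v : F.presheaf.stalk x) :
    RefHull.evalStalk (RefHull.homSh F G) G x (RefHull.stalkMapₗ (bidualMapG F G) x v) = bidualAtG F G x v := by
  obtain ⟨U, hx, s, rfl⟩ := TopCat.Presheaf.exists_germ_eq F.presheaf (x := x) v
  rw [RefHull.stalkMapₗ_germ, RefHull.evalStalk_germ]
  rfl

/-- A reduced scheme of dimension at most one is Cohen–Macaulay. -/
theorem isCM_of_reduced [IsLocallyNoetherian X] [QuasiSeparatedSpace X] [CompactSpace X] [IsReduced X]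
    (hle : topologicalKrullDim X ≤ ((1 : ℕ) : WithBot ℕ∞)) :
    ∀ x : X, LocCoh.IsCohenMacaulayLocalRing (X.presheaf.stalk x) := by
  refine MiscFlat6.isCohenMacaulayLocalRing_stalk_iff.2 fun x _ => ?_
  rw [CMFlatLib.isCohenMacaulayLocalRing_iff_isCM]
  let R := X.presheaf.stalk x
  have hd : ringKrullDim R ≤ ((1 : ℕ) : WithBot ℕ∞) := (DimIneqLib.stalk_dim_le_dim x).trans hle
  by_cases hm : IsLocalRing.maximalIdeal R = ⊥
  · have hf : IsField R := IsLocalRing.isField_iff_maximalIdeal_eq.2 hm
    exact CatLib.isCM_of_hasSeqIn (CommAlgDim.hasSeqIn_zero _) (ringKrullDim_eq_zero_of_isField hf).le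
  obtain ⟨r, hr, hreg⟩ : ∃ r ∈ IsLocalRing.maximalIdeal R, IsSMulRegular R r := by
    by_contra hc
    simp only [not_exists, not_and] at hc
    have hsub : (IsLocalRing.maximalIdeal R : Set R) ⊆ ⋃ p ∈ associatedPrimes R R, p := fun r hr =>
      (biUnion_associatedPrimes_eq_compl_regular R R).ge (hc r hr)
    obtain ⟨p, hp, hle'⟩ := (Ideal.subset_union_prime_finite (associatedPrimes.finite R R) ⊥ ⊥
      (fun p hp _ _ => hp.isPrime)).mp hsub
    obtain rfl := (IsLocalRing.maximalIdeal.isMaximal R).eq_of_le hp.isPrime.ne_top hle'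
    obtain ⟨-, a, ha⟩ := isAssociatedPrime_iff.1 hp
    have hk : ∀ z, z ∈ IsLocalRing.maximalIdeal R ↔ z * a = 0 := fun z => by
      rw [ha, Submodule.mem_colon_singleton, Submodule.mem_bot, smul_eq_mul]
    by_cases hau : IsUnit a
    · exact hm ((Submodule.eq_bot_iff _).2 fun z hz => hau.mul_left_eq_zero.1 ((hk z).1 hz))
    · have ha0 : a = 0 := IsReduced.eq_zero a ⟨2, by
        rw [sq]; exact (hk a).1 ((IsLocalRing.mem_maximalIdeal a).2 hau)⟩
      exact (IsLocalRing.maximalIdeal.isMaximal R).ne_top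
        (Ideal.eq_top_iff_one _ |>.2 ((hk 1).2 (by rw [ha0, mul_zero])))
  exact CatLib.isCM_of_hasSeqIn ⟨[r], rfl, by simpa using hr,
    (RingTheory.Sequence.isWeaklyRegular_singleton_iff R r).mpr hreg⟩ hd

/-- Every component of an integral curve has dimension one. -/
theorem equidim_integral [IsIntegral X] (hdim : topologicalKrullDim X = 1) :
    ∀ Z ∈ irreducibleComponents (X : Type u), topologicalKrullDim Z = 1 := fun Z hZ => by
  have hu : Z = Set.univ := by
    refine le_antisymm (Set.subset_univ Z) (hZ.2 ?_ (Set.subset_univ Z))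
    exact IrreducibleSpace.isIrreducible_univ X
  rw [hu, (Homeomorph.Set.univ X).isHomeomorph.topologicalKrullDim_eq]
  exact hdim

theorem ringKrullDim_closed [IsIntegral X] (hdim : topologicalKrullDim X = 1) {x : X}
    (hx : IsClosed ({x} : Set X)) : ringKrullDim (X.presheaf.stalk x) = 1 := by
  refine le_antisymm ((DimIneqLib.stalk_dim_le_dim x).trans hdim.le) ?_
  by_contra hlt
  rw [not_le] at hlt
  haveI : Ring.KrullDimLE 0 (X.presheaf.stalk x) := Ring.krullDimLE_iff.2 (ENat.WithBot.lt_add_one_iff.1 (by simpa using hlt))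
  obtain ⟨P, hP⟩ := EquidimLib.exists_stalkPt ((genericPoint_spec X).specializes (trivial : x ∈ (⊤ : Set X)))
  obtain ⟨Q, hQ⟩ := EquidimLib.exists_stalkPt (specializes_refl x)
  haveI : Subsingleton (PrimeSpectrum (X.presheaf.stalk x)) :=
    ⟨fun a b => PrimeSpectrum.ext ((IsLocalRing.eq_maximalIdeal (Ideal.IsPrime.isMaximal' (hI := a.2))).trans
      (IsLocalRing.eq_maximalIdeal (Ideal.IsPrime.isMaximal' (hI := b.2))).symm)⟩
  obtain ⟨y, hy⟩ := exists_ne hdim x
  have hηx : genericPoint X = x := by rw [← hP, Subsingleton.elim P Q, hQ]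
  have hsp : genericPoint X ⤳ y := (genericPoint_spec X).specializes trivial
  rw [hηx] at hsp
  exact hy (hsp.mem_closed hx (Set.mem_singleton x))

variable {k : Type u} [Field k] [IsIntegral X] (f : X ⟶ Spec (CommRingCat.of k)) [IsProper f]

/-- The dualizing module at a closed point of an integral curve. -/
theorem dualising_stalk (hdim : topologicalKrullDim X = 1) [DCoh.HasRpush f] (hf : DCoh.RpushPreservesQCoh f)
    (a : DCoh.DQCoh (Spec (CommRingCat.of k)) ⥤ DCoh.DQCoh X) (adj : DCoh.RpushQ f hf ⊣ a)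
    (O : DCoh.DQCoh (Spec (CommRingCat.of k)))
    (eO : O.obj ≅ DCoh.inD (Spec (CommRingCat.of k)) (Coh.structureModule (Spec (CommRingCat.of k))))
    {x : X} (hx : IsClosed ({x} : Set X)) :
    TFDualLib.Dualising (X.presheaf.stalk x) ((DCoh.HD (a.obj O).obj (-((1 : ℕ) : ℤ))).presheaf.stalk x) ∧
      Nontrivial ((DCoh.HD (a.obj O).obj (-((1 : ℕ) : ℤ))).presheaf.stalk x) ∧
      NoZeroSMulDivisors (X.presheaf.stalk x) ((DCoh.HD (a.obj O).obj (-((1 : ℕ) : ℤ))).presheaf.stalk x) := by
  haveI : IsLocallyNoetherian X := LocallyOfFiniteType.isLocallyNoetherian f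
  haveI : CompactSpace X := QuasiCompact.compactSpace_of_compactSpace f
  haveI : QuasiSeparatedSpace X := quasiSeparatedSpace_of_quasiSeparated f
  haveI : ∀ (U V : Scheme.{u}) (j : U ⟶ V) [IsOpenImmersion j],
      PreservesFiniteLimits (Scheme.Modules.restrictFunctor j) := fun U V j _ => inferInstance
  haveI : ∀ (B : CommRingCat.{u}), PreservesFiniteLimits (tilde.functor B) := fun B =>
    HensSchLib.tilde_preservesFiniteLimits B
  obtain ⟨hdual, -, -⟩ := Dual3Lib.amplitude f hf a adj O eO 1 hdim.le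
  obtain ⟨hz, hcoh, -⟩ := Groth.Agent.S3637.result k X f (isCM_of_reduced hdim.le) 1
    (equidim_integral hdim) hf a adj O ⟨eO⟩
  let M := DCoh.HD (a.obj O).obj (-((1 : ℕ) : ℤ))
  haveI : Coh.IsQCoh M := hcoh.1
  show TFDualLib.Dualising (X.presheaf.stalk x) (M.presheaf.stalk x) ∧ _
  obtain ⟨U, hU, hxU, -⟩ := exists_isAffineOpen_mem_and_subset (x := x) (U := ⊤) trivial
  haveI := hU.isOpenImmersion_fromSpec
  haveI := IsLocallyNoetherian.component_noetherian ⟨U, hU⟩
  obtain ⟨ω, hω, ⟨e⟩⟩ := hdual Γ(X, U) hU.fromSpec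
  let p := hU.primeIdealOf ⟨x, hxU⟩
  letI : Algebra Γ(X, U) (X.presheaf.stalk x) := (X.presheaf.germ U x hxU).hom.toAlgebra
  haveI hloc : IsLocalization.AtPrime (X.presheaf.stalk x) p.asIdeal := hU.isLocalization_stalk ⟨x, hxU⟩
  haveI := DRingLib.hasLBaseChange (algebraMap Γ(X, U) (X.presheaf.stalk x))
  obtain ⟨η, hη, hL⟩ := DualCxLib.exists_loc_base (S := X.presheaf.stalk x) p.asIdeal.primeCompl ω
  have hZ := DualCxLib.isDualizing_loc p.asIdeal.primeCompl hω hη hL
  let Z := (DRing.LBaseChange (algebraMap Γ(X, U) (X.presheaf.stalk x))).obj ω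
  -- localized cohomology and stalks
  have key : ∀ i : ℤ, Nonempty (Dual.HD (X.presheaf.stalk x) Z i ≃ₗ[X.presheaf.stalk x]
      (DCoh.HD (a.obj O).obj i).presheaf.stalk x) := fun i => by
    haveI : Coh.IsQCoh (DCoh.HD (a.obj O).obj i) := DualCxLib.isQCoh_HD hdual i
    letI := Module.compHom ((DCoh.HD (a.obj O).obj i).presheaf.stalk x) (X.presheaf.germ U x hxU).hom
    haveI : IsScalarTower Γ(X, U) (X.presheaf.stalk x) ((DCoh.HD (a.obj O).obj i).presheaf.stalk x) :=
      IsScalarTower.of_algebraMap_smul fun _ _ => rfl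
    haveI := FlatLib.isLocalizedModule_germLin (DCoh.HD (a.obj O).obj i) hU hxU
    let g := (FlatLib.germLin (DCoh.HD (a.obj O).obj i) hxU).comp (DualCxLib.sectionsHD hU e i).toLinearMap
    haveI : IsLocalizedModule p.asIdeal.primeCompl g := IsLocalizedModule.of_linearEquiv_right _ _ _
    obtain ⟨ee⟩ := DRingLib.exists_homology_iso_mapDerived
      (ModuleCat.restrictScalars.{u} (algebraMap Γ(X, U) (X.presheaf.stalk x))) Z i
    letI : Module Γ(X, U) (Dual.HD (X.presheaf.stalk x) Z i) :=
      Module.compHom _ (algebraMap Γ(X, U) (X.presheaf.stalk x))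
    haveI : IsScalarTower Γ(X, U) (X.presheaf.stalk x) (Dual.HD (X.presheaf.stalk x) Z i) :=
      IsScalarTower.of_algebraMap_smul fun _ _ => rfl
    let e' : (hH Γ(X, U) i).obj ((DRing.restrictD _).obj Z) ≃ₗ[Γ(X, U)] Dual.HD (X.presheaf.stalk x) Z i :=
      ee.toLinearEquiv
    haveI : IsLocalizedModule p.asIdeal.primeCompl ((hH Γ(X, U) i).map η).hom := hL i
    haveI : IsLocalizedModule p.asIdeal.primeCompl (e'.toLinearMap.comp ((hH Γ(X, U) i).map η).hom) :=
      IsLocalizedModule.of_linearEquiv _ _ e'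
    exact ⟨((IsLocalizedModule.linearEquiv p.asIdeal.primeCompl (e'.toLinearMap.comp ((hH Γ(X, U) i).map η).hom) g)).extendScalarsOfIsLocalization
      p.asIdeal.primeCompl _⟩
  obtain ⟨q⟩ := key (-((1 : ℕ) : ℤ))
  obtain ⟨eZ⟩ := exists_iso_shift (ω := Z) (-((1 : ℕ) : ℤ)) (fun i hi => by
    haveI : Subsingleton ((DCoh.HD (a.obj O).obj i).presheaf.stalk x) :=
      (DCohRestrLib.isZero_iff_subsingleton_stalks _).1 (hz i hi) x
    exact (key i).some.toEquiv.subsingleton) q
  haveI : IsNoetherian (X.presheaf.stalk x) ((DevissLib.St x).obj M) := DevissLib.isNoetherian_stalk hcoh x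
  haveI : Module.Finite (X.presheaf.stalk x) (M.presheaf.stalk x) :=
    (⟨IsNoetherian.noetherian _⟩ : Module.Finite (X.presheaf.stalk x) ((DevissLib.St x).obj M))
  exact dualising hZ (ringKrullDim_closed hdim hx) eZ

/-- **Biduality.** -/
theorem isIso_bidual (hdim : topologicalKrullDim X = 1) [DCoh.HasRpush f] (hf : DCoh.RpushPreservesQCoh f)
    (a : DCoh.DQCoh (Spec (CommRingCat.of k)) ⥤ DCoh.DQCoh X) (adj : DCoh.RpushQ f hf ⊣ a)
    (O : DCoh.DQCoh (Spec (CommRingCat.of k)))
    (eO : O.obj ≅ DCoh.inD (Spec (CommRingCat.of k)) (Coh.structureModule (Spec (CommRingCat.of k))))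
    {F : X.Modules} (hFc : Coh.IsCoh F)
    (hFt : ∀ (x : X) (r : X.presheaf.stalk x) (m : F.presheaf.stalk x), r • m = 0 → r = 0 ∨ m = 0) :
    IsIso (bidualMapG F (DCoh.HD (a.obj O).obj (-((1 : ℕ) : ℤ)))) := by
  haveI : IsLocallyNoetherian X := LocallyOfFiniteType.isLocallyNoetherian f
  haveI : CompactSpace X := QuasiCompact.compactSpace_of_compactSpace f
  haveI : QuasiSeparatedSpace X := quasiSeparatedSpace_of_quasiSeparated f
  obtain ⟨-, hcoh, -⟩ := Groth.Agent.S3637.result k X f (isCM_of_reduced hdim.le) 1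
    (equidim_integral hdim) hf a adj O ⟨eO⟩
  let G := DCoh.HD (a.obj O).obj (-((1 : ℕ) : ℤ))
  show IsIso (bidualMapG F G)
  have hH := RefHullLib.isCoh_homSh hFc hcoh
  have hHH := RefHullLib.isCoh_homSh hH hcoh
  haveI := hFc.1
  haveI := hHH.1
  refine (RefHullLib.isIso_iff_stalk _).2 fun y => ?_
  obtain ⟨x, hx, hyx⟩ := MiscFlat6.exists_closed_specializes y
  refine RefHullLib.bijective_of_specializes (bidualMapG F G) hyx ?_
  obtain ⟨hD, hnt, htf⟩ := dualising_stalk f hdim hf a adj O eO hx
  haveI := hnt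
  haveI := htf
  haveI : IsNoetherian (X.presheaf.stalk x) ((DevissLib.St x).obj G) := DevissLib.isNoetherian_stalk hcoh x
  haveI : Module.Finite (X.presheaf.stalk x) (G.presheaf.stalk x) :=
    (⟨IsNoetherian.noetherian _⟩ : Module.Finite (X.presheaf.stalk x) ((DevissLib.St x).obj G))
  haveI : IsNoetherian (X.presheaf.stalk x) ((DevissLib.St x).obj F) := DevissLib.isNoetherian_stalk hFc x
  haveI : Module.Finite (X.presheaf.stalk x) (F.presheaf.stalk x) :=
    (⟨IsNoetherian.noetherian _⟩ : Module.Finite (X.presheaf.stalk x) ((DevissLib.St x).obj F))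
  haveI : NoZeroSMulDivisors (X.presheaf.stalk x) (F.presheaf.stalk x) := ⟨fun {r m} h => hFt x r m h⟩
  let e₁ := LinearEquiv.ofBijective _ (RefHullLib.evalStalk_bijective (G := G) (QCohLib.isFP_of_isCoh F hFc) x)
  let e₂ := LinearEquiv.ofBijective _
    (RefHullLib.evalStalk_bijective (G := G) (QCohLib.isFP_of_isCoh _ hH) x)
  let d : (RefHull.StalkHom F G x →ₗ[X.presheaf.stalk x] G.presheaf.stalk x) ≃ₗ[X.presheaf.stalk x]
      RefHull.StalkHom (RefHull.homSh F G) G x :=
    LinearEquiv.arrowCongr e₁.symm (LinearEquiv.refl _ _)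
  let b := LinearEquiv.ofBijective _ (TFDualLib.biEval_bijective hD (F.presheaf.stalk x))
  have hfun : ⇑(RefHull.stalkMapₗ (bidualMapG F G) x) = fun v => e₂.symm (d (b v)) := funext fun v => by
    apply e₂.injective
    rw [LinearEquiv.apply_symm_apply]
    refine (evalStalk_stalkMap_bidualMapG F G x v).trans (LinearMap.ext fun θ => ?_)
    rfl
  rw [hfun]
  exact e₂.symm.bijective.comp (d.bijective.comp b.bijective)

end CurveDualModLib
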