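import Groth.Agent.FieldDualLib.Basic
import Groth.Agent.CurvLib.Euler
import Groth.Agent.CurvLib.Finite0
import Groth.Agent.CurvLib.SupportVanish
import Groth.Agent.QCohLib.Coherent
import Groth.Agent.DevissLib.Stalk
import Groth.Agent.DevissLib.ClosedImm
import Mathlib.Algebra.Homology.DerivedCategory.SingleTriangle

/-!
# Consequences of duality on a curve with `h⁰(O) = 1`
-/

set_option autoImplicit false
set_option linter.style.haveILetI false
set_option backward.isDefEq.respectTransparency false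
set_option backward.isDefEq.respectTransparency.types false
set_option maxHeartbeats 1000000
set_option synthInstance.maxHeartbeats 200000

universe u

open CategoryTheory CategoryTheory.Limits AlgebraicGeometry DerivedCategory

attribute [local instance] HasDerivedCategory.standard

noncomputable section

namespace CurveDualModLib

open Groth.Agent Groth.Agent.Dual3Lib

variable {k : Type u} [Field k] {X : Scheme.{u}} [X.Over (Spec (CommRingCat.of k))]

abbrev inH (M : X.Modules) : DCoh.D X := (singleFunctor X.Modules 0).obj M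
abbrev mapH {M N : X.Modules} (φ : M ⟶ N) : inH M ⟶ inH N := (singleFunctor X.Modules 0).map φ
abbrev mapP {M N : X.Modules} (φ : M ⟶ N) (p : ℤ) :
    (shiftFunctor (DCoh.D X) p).obj (inH M) ⟶ (shiftFunctor (DCoh.D X) p).obj (inH N) :=
  (shiftFunctor (DCoh.D X) p).map (mapH φ)
abbrev zH (M : X.Modules) : (shiftFunctor (DCoh.D X) (0 : ℤ)).obj (inH M) ≅ inH M :=
  (shiftFunctorZero (DCoh.D X) ℤ).app (inH M)

/-- The degree zero homs are the global sections. -/
def homZero [HasExt.{u} X.Modules] (M : X.Modules) : (uO X ⟶ inH M) ≃ₗ[k] Coh.HH X M 0 :=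
  (Linear.homCongr k (Iso.refl (uO X)) (zH M).symm).trans (FieldDualLib.homEquivHH (k := k) M 0)

theorem surjective_mapP [HasExt.{u} X.Modules] {M N : X.Modules} (φ : M ⟶ N) (p : ℕ)
    (h : Function.Surjective (CurvLib.hMap (k := k) φ p)) :
    Function.Surjective (fun y : uO X ⟶ (shiftFunctor (DCoh.D X) (p : ℤ)).obj (inH M) => y ≫ mapP φ (p : ℤ)) := by
  intro w
  obtain ⟨x, hx⟩ := h (FieldDualLib.homEquivHH (k := k) N p w)
  refine ⟨(FieldDualLib.homEquivHH (k := k) M p).symm x, (FieldDualLib.homEquivHH (k := k) N p).injective ?_⟩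
  have hn := FieldDualLib.homEquivHH_natural (k := k) φ p ((FieldDualLib.homEquivHH (k := k) M p).symm x)
  rw [LinearEquiv.apply_symm_apply] at hn
  exact hn.trans hx

theorem surjective_left {S : ShortComplex X.Modules} (hS : S.ShortExact) (p : ℕ)
    (h : Subsingleton (Coh.HH X S.X₃ p)) : Function.Surjective (CurvLib.hMap (k := k) S.f p) := fun y => by
  have hy : y ∈ LinearMap.ker (CurvLib.hMap (k := k) S.g p) := h.elim _ _
  rw [← CurvLib.exact₂ hS p] at hy
  exact hy

theorem surjective_right {S : ShortComplex X.Modules} (hS : S.ShortExact) (p : ℕ)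
    (h : Subsingleton (Coh.HH X S.X₁ (p + 1))) : Function.Surjective (CurvLib.hMap (k := k) S.g p) := fun y => by
  have hy : y ∈ LinearMap.ker (CurvLib.hDel (k := k) hS p) := h.elim _ _
  rw [← CurvLib.exact₃ hS p] at hy
  exact hy

theorem shortExact_kernel {A B : X.Modules} (g : A ⟶ B) [Epi g] :
    (ShortComplex.mk (kernel.ι g) g (kernel.condition g)).ShortExact :=
  { exact := ShortComplex.exact_of_f_is_kernel _ (kernelIsKernel g), mono_f := inferInstance, epi_g := ‹_› }

section

variable [IsProper (X ↘ Spec (CommRingCat.of k))] [HasExt.{u} X.Modules] {ω : X.Modules}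
  {t : (uO X ⟶ (DCoh.inD X ω)⟦((1 : ℕ) : ℤ)⟧) →ₗ[k] k}
  (hω : Coh.IsQCoh ω)
  (h0 : Module.finrank k (Coh.HH X (Coh.structureModule X) 0) = 1)
  (ht : ∀ G : X.Modules, Coh.IsQCoh G → ∀ (j m : ℤ) (h : j + m = ((1 : ℕ) : ℤ)),
    Function.Bijective (FieldDualLib.pairing t G j m h))

include h0 ht in
theorem finrank_H1 : Module.finrank k (uO X ⟶ (shiftFunctor (DCoh.D X) ((1 : ℕ) : ℤ)).obj (inH ω)) = 1 := by
  haveI := CurvLib.finite_HH (k := k) (DevissLib.isCoh_structureModule X) 0
  haveI : IsLocallyNoetherian X := LocallyOfFiniteType.isLocallyNoetherian (X ↘ Spec (CommRingCat.of k))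
  let e := LinearEquiv.ofBijective _ (ht (Coh.structureModule X) QCohLib.isQCoh_unit ((1 : ℕ) : ℤ) ((0 : ℕ) : ℤ) (by norm_num)) ≪≫ₗ
      (FieldDualLib.homEquivHH (k := k) (Coh.structureModule X) 0).symm.dualMap
  exact e.finrank_eq.trans (Subspace.dual_finrank_eq.trans h0)

include hω h0 ht in
theorem finrank_end : Module.finrank k (inH ω ⟶ inH ω) = 1 := by
  have h1 := finrank_H1 h0 ht
  haveI : Module.Finite k (uO X ⟶ (shiftFunctor (DCoh.D X) ((1 : ℕ) : ℤ)).obj (inH ω)) :=
    Module.finite_of_finrank_eq_succ h1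
  let e := (Linear.homCongr k (Iso.refl (inH ω)) (zH ω).symm).trans
    (LinearEquiv.ofBijective _ (ht ω hω 0 ((1 : ℕ) : ℤ) (zero_add _)))
  exact e.finrank_eq.trans (Subspace.dual_finrank_eq.trans h1)

include hω h0 ht in
/-- Every nonzero endomorphism of the dualizing module is invertible. -/
theorem isIso_of_ne_zero (φ : ω ⟶ ω) (hφ : φ ≠ 0) : IsIso φ := by
  have hne : (𝟙 (inH ω) : inH ω ⟶ inH ω) ≠ 0 := fun h => hφ ((singleFunctor X.Modules 0).map_injective (by
    rw [Functor.map_zero, ← Category.comp_id ((singleFunctor X.Modules 0).map φ)]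
    exact (congrArg (mapH φ ≫ ·) h).trans comp_zero))
  obtain ⟨c, hc⟩ := (finrank_eq_one_iff_of_nonzero' _ hne).mp (finrank_end hω h0 ht) (mapH φ)
  have hc0 : c ≠ 0 := fun h => hφ ((singleFunctor X.Modules 0).map_injective (by
    rw [Functor.map_zero]; exact hc.symm.trans (by rw [h, zero_smul])))
  haveI : IsIso ((singleFunctor X.Modules 0).map φ) := by
    refine ⟨c⁻¹ • 𝟙 _, ?_, ?_⟩ <;> (show _ ≫ _ = _; simp only [show (singleFunctor X.Modules 0).map φ = c • 𝟙 _ from hc.symm]; simp [smul_smul, hc0])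
  exact isIso_of_reflects_iso φ (singleFunctor X.Modules 0)

include hω h0 ht in
/-- A map out of `ω` hitting a nonzero class in `H¹` has a retraction. -/
theorem exists_retraction {F : X.Modules} (hF : Coh.IsQCoh F) (f : ω ⟶ F)
    (hsurj : Function.Surjective (fun x : uO X ⟶ (shiftFunctor (DCoh.D X) ((1 : ℕ) : ℤ)).obj (inH ω) =>
      x ≫ mapP f ((1 : ℕ) : ℤ)))
    (hne : ∃ y : uO X ⟶ (shiftFunctor (DCoh.D X) ((1 : ℕ) : ℤ)).obj (inH F), y ≠ 0) :
    ∃ r : F ⟶ ω, f ≫ r = 𝟙 ω := by
  obtain ⟨y, hy⟩ := hne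
  obtain ⟨ψ, hψ⟩ : ∃ ψ : Module.Dual k (uO X ⟶ (shiftFunctor (DCoh.D X) ((1 : ℕ) : ℤ)).obj (inH F)), ψ y ≠ 0 := by
    by_contra hc
    simp only [not_exists, not_not] at hc
    exact hy ((Module.forall_dual_apply_eq_zero_iff k y).mp hc)
  obtain ⟨e, he⟩ := (ht F hF 0 ((1 : ℕ) : ℤ) (zero_add _)).2 ψ
  obtain ⟨φ, hφ⟩ := (singleFunctor X.Modules 0).map_surjective (e ≫ (zH ω).hom)
  have hfφ : f ≫ φ ≠ 0 := fun h => by
    obtain ⟨x, rfl⟩ := hsurj y
    refine hψ ?_
    rw [← he]
    refine (FieldDualLib.pairing_natural t f 0 ((1 : ℕ) : ℤ) (zero_add _) e x).symm.trans ?_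
    have : mapH f ≫ e = 0 := by
      have h' : mapH f ≫ e ≫ (zH ω).hom = 0 := by
        rw [← hφ, ← Functor.map_comp, h, Functor.map_zero]
      rwa [← Category.assoc, ← cancel_mono (zH ω).inv, Category.assoc, Iso.hom_inv_id, Category.comp_id,
        zero_comp] at h'
    show FieldDualLib.pairing t ω 0 ((1 : ℕ) : ℤ) (zero_add _) (mapH f ≫ e) x = 0
    rw [this, map_zero]; rfl
  haveI := isIso_of_ne_zero hω h0 ht _ hfφ
  exact ⟨φ ≫ inv (f ≫ φ), by rw [← Category.assoc]; exact IsIso.hom_inv_id _⟩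

theorem surjective_toH1 {F Q : X.Modules} (hdim : topologicalKrullDim X = 1) {W : X.Modules} (f : W ⟶ F) (g : F ⟶ Q) [Epi g] (w : f ≫ g = 0)
    (hex : (ShortComplex.mk f g w).Exact) (hQ1 : Subsingleton (Coh.HH X Q 1)) :
    Function.Surjective (CurvLib.hMap (k := k) f 1) := by
  haveI : IsLocallyNoetherian X := LocallyOfFiniteType.isLocallyNoetherian (X ↘ Spec (CommRingCat.of k))
  haveI : CompactSpace X := QuasiCompact.compactSpace_of_compactSpace (X ↘ Spec (CommRingCat.of k))
  haveI : AlgebraicGeometry.IsNoetherian X := ⟨⟩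
  haveI : TopologicalSpace.NoetherianSpace X := inferInstance
  haveI : Epi (kernel.lift g f w) := hex.epi_kernelLift
  intro y
  obtain ⟨a, ha⟩ := surjective_left (k := k) (shortExact_kernel g) 1 hQ1 y
  obtain ⟨b, hb⟩ := surjective_right (k := k) (shortExact_kernel (kernel.lift g f w)) 1
    (CurvLib.subsingleton_HH_of_dim_le (d := 1) _ (by rw [hdim]; rfl) 2 one_lt_two) a
  refine ⟨b, ?_⟩
  rw [← ha, ← hb]
  show _ = CurvLib.hMap (k := k) (kernel.ι g) 1 (CurvLib.hMap (k := k) (kernel.lift g f w) 1 b)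
  rw [← CurvLib.hMap_comp, kernel.lift_ι]

include hω h0 ht in
theorem h1_zero_or_split (hdim : topologicalKrullDim X = 1) {F Q : X.Modules} (hF : Coh.IsQCoh F) (f : ω ⟶ F)
    (g : F ⟶ Q) [Epi g] (w : f ≫ g = 0) (hex : (ShortComplex.mk f g w).Exact)
    (hQ1 : Subsingleton (Coh.HH X Q 1)) :
    Subsingleton (Coh.HH X F 1) ∨ ∃ r : F ⟶ ω, f ≫ r = 𝟙 ω := by
  refine or_iff_not_imp_left.2 fun hne => exists_retraction hω h0 ht hF f
    (surjective_mapP (k := k) f 1 (surjective_toH1 hdim f g w hex hQ1)) ?_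
  by_contra hc
  simp only [not_exists, not_not] at hc
  exact hne ⟨fun a b => (FieldDualLib.homEquivHH (k := k) F 1).symm.injective ((hc _).trans (hc _).symm)⟩

include hω h0 ht in
/-- Sections of an extension of a finite length module by `ω` generate the quotient. -/
theorem exists_epi (hdim : topologicalKrullDim X = 1) {F Q : X.Modules} (hF : Coh.IsQCoh F) (hQ : Coh.IsCoh Q)
    (f : ω ⟶ F) (g : F ⟶ Q) [Epi g] (w : f ≫ g = 0) (hex : (ShortComplex.mk f g w).Exact)
    (hQ0 : topologicalKrullDim (CohB1.support Q) ≤ 0) (hQ2 : 2 ≤ Module.finrank k (Coh.HH X Q 0))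
    (hno : ∀ (Q' : X.Modules) (i : Q' ⟶ F), Mono i → Mono (i ≫ g) → IsZero Q') :
    ∃ (ι : Type u) (p : (SheafOfModules.free ι : X.Modules) ⟶ F), Epi (p ≫ g) := by
  haveI : IsLocallyNoetherian X := LocallyOfFiniteType.isLocallyNoetherian (X ↘ Spec (CommRingCat.of k))
  haveI : CompactSpace X := QuasiCompact.compactSpace_of_compactSpace (X ↘ Spec (CommRingCat.of k))
  haveI : AlgebraicGeometry.IsNoetherian X := ⟨⟩
  haveI : TopologicalSpace.NoetherianSpace X := inferInstance
  refine ⟨F.sections, F.freeHomEquiv.symm id, ?_⟩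
  let p : (SheafOfModules.free F.sections : X.Modules) ⟶ F := F.freeHomEquiv.symm id
  have hfac : ∀ u : Coh.structureModule X ⟶ F, ∃ v : Coh.structureModule X ⟶ (SheafOfModules.free F.sections : X.Modules),
      v ≫ p = u := fun u => ⟨SheafOfModules.ιFree (F.unitHomEquiv u), by
    rw [← SheafOfModules.unitHomEquiv_symm_freeHomEquiv_apply]
    show F.unitHomEquiv.symm ((F.freeHomEquiv (F.freeHomEquiv.symm id)) _) = u
    rw [Equiv.apply_symm_apply, id_eq, Equiv.symm_apply_apply]⟩
  -- the ideal `I` of the sequence and its connecting map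
  let π : ω ⟶ kernel g := kernel.lift g f w
  haveI : Epi π := hex.epi_kernelLift
  have hSA := shortExact_kernel g
  let δ : inH Q ⟶ (shiftFunctor (DCoh.D X) ((1 : ℕ) : ℤ)).obj (inH (kernel g)) := hSA.singleδ
  have hdist := hSA.singleTriangle_distinguished
  let D : (uO X ⟶ inH Q) →ₗ[k] (uO X ⟶ (shiftFunctor (DCoh.D X) ((1 : ℕ) : ℤ)).obj (inH (kernel g))) :=
    Linear.rightComp k (uO X) δ
  have hlift : ∀ x, D x = 0 → ∃ u : Coh.structureModule X ⟶ F, mapH (u ≫ g) = x := fun x hx => by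
    obtain ⟨y, hy⟩ := Pretriangulated.Triangle.coyoneda_exact₃ _ hdist x hx
    obtain ⟨u, rfl⟩ := (singleFunctor X.Modules 0).map_surjective y
    exact ⟨u, ((singleFunctor X.Modules 0).map_comp u g).trans hy.symm⟩
  have hsurjπ : Function.Surjective (fun x : uO X ⟶ (shiftFunctor (DCoh.D X) ((1 : ℕ) : ℤ)).obj (inH ω) =>
      x ≫ mapP π ((1 : ℕ) : ℤ)) :=
    surjective_mapP (k := k) π 1 (surjective_right (k := k) (shortExact_kernel π) 1
      (CurvLib.subsingleton_HH_of_dim_le (d := 1) _ (by rw [hdim]; rfl) 2 one_lt_two))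
  have h1 := finrank_H1 h0 ht
  haveI : Module.Finite k (uO X ⟶ (shiftFunctor (DCoh.D X) ((1 : ℕ) : ℤ)).obj (inH ω)) :=
    Module.finite_of_finrank_eq_succ h1
  let P := Linear.rightComp k (uO X) (mapP π ((1 : ℕ) : ℤ))
  haveI : Module.Finite k (uO X ⟶ (shiftFunctor (DCoh.D X) ((1 : ℕ) : ℤ)).obj (inH (kernel g))) :=
    Module.Finite.of_surjective P hsurjπ
  have hle1 : Module.finrank k (uO X ⟶ (shiftFunctor (DCoh.D X) ((1 : ℕ) : ℤ)).obj (inH (kernel g))) ≤ 1 :=
    le_of_le_of_eq (P.finrank_le_finrank_of_surjective hsurjπ) h1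
  have hker : ∀ x y, D x ≠ 0 → ∃ c : k, D (y - c • x) = 0 := fun x y hx => by
    have hfr : Module.finrank k (uO X ⟶ (shiftFunctor (DCoh.D X) ((1 : ℕ) : ℤ)).obj (inH (kernel g))) = 1 :=
      le_antisymm hle1 (Module.finrank_pos_iff_exists_ne_zero.2 ⟨_, hx⟩)
    obtain ⟨c, hc⟩ := (finrank_eq_one_iff_of_nonzero' _ hx).mp hfr (D y)
    exact ⟨c, by rw [map_sub, map_smul, hc, sub_self]⟩
  -- the generated submodule
  by_contra hepi
  let c := cokernel.π (p ≫ g)
  let j := kernel.ι c
  let q : (SheafOfModules.free F.sections : X.Modules) ⟶ kernel c := kernel.lift c (p ≫ g) (cokernel.condition _)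
  have hpQ : Coh.IsQCoh (SheafOfModules.free F.sections : X.Modules) :=
    inferInstanceAs ((SheafOfModules.free F.sections : X.Modules).IsQuasicoherent)
  have hCq : Coh.IsQCoh (cokernel (p ≫ g)) := QCohLib.isQCoh_cokernel _ (h1 := hpQ) (h2 := hQ.1)
  have hC : Coh.IsCoh (cokernel (p ≫ g)) := QCohLib.isCoh_cokernel _ hpQ hQ
  have hK : Coh.IsCoh (kernel c) := QCohLib.isCoh_kernel c hQ hC.1
  have hsub : ∀ x, (∃ v : Coh.structureModule X ⟶ kernel c, mapH (v ≫ j) = x) ↔ x ≫ mapH c = 0 := fun x => by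
    obtain ⟨u, rfl⟩ := (singleFunctor X.Modules 0).map_surjective x
    constructor
    · rintro ⟨v, hv⟩
      rw [← hv]
      show (singleFunctor X.Modules 0).map (v ≫ j) ≫ (singleFunctor X.Modules 0).map c = 0
      rw [← Functor.map_comp, Category.assoc, kernel.condition, comp_zero, Functor.map_zero]
    · intro hu
      have hu' : u ≫ c = 0 := (singleFunctor X.Modules 0).map_injective (by
        rw [Functor.map_comp, Functor.map_zero]; exact hu)
      exact ⟨kernel.lift c u hu', by rw [kernel.lift_ι]⟩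
  let E := LinearMap.ker (Linear.rightComp k (uO X) (mapH c))
  have hVE : ∀ x, D x = 0 → x ∈ E := fun x hx => by
    obtain ⟨u, rfl⟩ := hlift x hx
    obtain ⟨v, rfl⟩ := hfac u
    exact (hsub (mapH ((v ≫ p) ≫ g))).1 ⟨v ≫ q, congrArg mapH (by simp only [q, j, Category.assoc, kernel.lift_ι])⟩
  -- some section lies outside
  obtain ⟨x₀, hx₀⟩ : ∃ x : uO X ⟶ inH Q, x ∉ E := by
    by_contra hc
    simp only [not_exists, not_not] at hc
    have hsC : topologicalKrullDim (CohB1.support (cokernel (p ≫ g))) ≤ 0 := by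
      refine le_trans (Topology.IsInducing.topologicalKrullDim_le
        (Topology.IsEmbedding.inclusion ?_).isInducing) hQ0
      exact DevissLib.support_epi c
    have hsK : topologicalKrullDim (CohB1.support (kernel c)) ≤ 0 := by
      refine le_trans (Topology.IsInducing.topologicalKrullDim_le
        (Topology.IsEmbedding.inclusion ?_).isInducing) hQ0
      exact DevissLib.support_mono j
    have hcs := surjective_mapP (k := k) c 0 (surjective_right (k := k) (shortExact_kernel c) 0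
      (CurvLib.subsingleton_HH_of_support_dim (d := 0) _ hK.2 hsK 1 one_pos))
    refine hepi ?_
    have hz : IsZero (cokernel (p ≫ g)) := by
      refine CurvLib.isZero_of_h0 (k := k) hC hsC ?_
      haveI : Subsingleton (Coh.HH X (cokernel (p ≫ g)) 0) := by
        refine ⟨fun a b => ?_⟩
        have key : ∀ a : Coh.HH X (cokernel (p ≫ g)) 0, a = 0 := fun a => by
          obtain ⟨y, hy⟩ := hcs ((FieldDualLib.homEquivHH (k := k) _ 0).symm a)
          have : y ≫ mapP c ((0 : ℕ) : ℤ) = 0 := by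
            have h' := hc (y ≫ (zH Q).hom)
            rw [LinearMap.mem_ker] at h'
            have hn : mapP c (0 : ℤ) ≫ (zH (cokernel (p ≫ g))).hom = (zH Q).hom ≫ mapH c :=
              (shiftFunctorZero (DCoh.D X) ℤ).hom.naturality (mapH c)
            rw [← cancel_mono (zH (cokernel (p ≫ g))).hom, zero_comp, Category.assoc]
            exact (congrArg (y ≫ ·) hn).trans ((Category.assoc _ _ _).symm.trans h')
          exact (LinearEquiv.map_eq_zero_iff _).mp (hy.symm.trans this)
        rw [key a, key b]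
      exact Module.finrank_zero_of_subsingleton
    exact Preadditive.epi_of_isZero_cokernel _ hz
  have hDx₀ : D x₀ ≠ 0 := fun h => hx₀ (hVE _ h)
  have hEV : ∀ x ∈ E, D x = 0 := fun x hx => by
    by_contra hne
    obtain ⟨c', hc'⟩ := hker x x₀ hne
    refine hx₀ ?_
    have := E.add_mem (hVE _ hc') (E.smul_mem c' hx)
    rwa [sub_add_cancel] at this
  -- `ω` is the kernel
  haveI : IsIso π := by
    obtain ⟨r, hr⟩ := exists_retraction hω h0 ht
      (@QCohLib.isQCoh_kernel _ _ _ g hF hQ.1) π hsurjπ ⟨_, hDx₀⟩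
    haveI : IsSplitMono π := IsSplitMono.mk' ⟨r, hr⟩
    exact isIso_of_mono_of_epi π
  -- the submodule lifts
  have hjδ : mapH j ≫ δ = 0 := by
    let e : inH (kernel c) ⟶ (shiftFunctor (DCoh.D X) ((1 : ℕ) : ℤ)).obj (inH ω) :=
      mapH j ≫ δ ≫ mapP (inv π) ((1 : ℕ) : ℤ)
    suffices e = 0 by
      have h' := congrArg (· ≫ mapP π ((1 : ℕ) : ℤ)) this
      simp only [e, Category.assoc, zero_comp, ← Functor.map_comp, IsIso.inv_hom_id] at h'
      simpa using h'
    refine (ht (kernel c) hK.1 ((1 : ℕ) : ℤ) 0 (add_zero _)).1 ?_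
    rw [map_zero]
    refine LinearMap.ext fun x => ?_
    show t (x ≫ (shiftFunctor (DCoh.D X) (0 : ℤ)).map e ≫ _) = 0
    have hx : x ≫ (zH (kernel c)).hom ≫ e = 0 := by
      obtain ⟨v, hv⟩ := (singleFunctor X.Modules 0).map_surjective (x ≫ (zH (kernel c)).hom)
      have hD := hEV (mapH (v ≫ j)) (LinearMap.mem_ker.2 ((hsub (mapH (v ≫ j))).1 ⟨v, rfl⟩))
      rw [← Category.assoc, ← hv]
      have : mapH (v ≫ j) ≫ δ = 0 := hD
      rw [show mapH (v ≫ j) = mapH v ≫ mapH j from Functor.map_comp _ _ _, Category.assoc] at this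
      show mapH v ≫ mapH j ≫ δ ≫ _ = 0
      rw [reassoc_of% this, zero_comp]
    have hn : (shiftFunctor (DCoh.D X) (0 : ℤ)).map e =
        (zH (kernel c)).hom ≫ e ≫ ((shiftFunctorZero (DCoh.D X) ℤ).app _).inv := by
      have := (shiftFunctorZero (DCoh.D X) ℤ).hom.naturality e
      refine Eq.symm ((Category.assoc _ _ _).symm.trans ?_)
      refine (congrArg (· ≫ _) this.symm).trans ?_
      exact (Category.assoc _ _ _).trans ((congrArg (_ ≫ ·) (Iso.hom_inv_id_app _ _)).trans (Category.comp_id _))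
    rw [hn, Category.assoc, Category.assoc, reassoc_of% hx, zero_comp, map_zero]
  obtain ⟨s, hs⟩ := Pretriangulated.Triangle.coyoneda_exact₃ _ hdist (mapH j) hjδ
  obtain ⟨s, rfl⟩ := (singleFunctor X.Modules 0).map_surjective s
  have hsg : s ≫ g = j := (singleFunctor X.Modules 0).map_injective
    (((singleFunctor X.Modules 0).map_comp s g).trans hs.symm)
  haveI : Mono (s ≫ g) := hsg ▸ inferInstanceAs (Mono j)
  haveI : Mono s := mono_of_mono s g
  have hz := hno _ s inferInstance inferInstance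
  -- so no section lifts: contradiction with `h⁰(Q) ≥ 2`
  have hE : ∀ x ∈ E, x = 0 := fun x hx => by
    obtain ⟨v, rfl⟩ := (hsub x).2 hx
    rw [hz.eq_of_tgt v 0, zero_comp]
    exact Functor.map_zero _ _ _
  have hinj : Function.Injective D := (injective_iff_map_eq_zero D).2 fun x hx => hE x (hVE x hx)
  have h2 : Module.finrank k (uO X ⟶ inH Q) = Module.finrank k (Coh.HH X Q 0) := (homZero (k := k) Q).finrank_eq
  have := LinearMap.finrank_le_finrank_of_injective hinj
  omega

end

end CurveDualModLib
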