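import Groth.Agent.CurveDualModLib.CM
import Groth.Agent.CurveDualModLib.Dual
import Groth.Agent.DevissLib.Basic
import Groth.Agent.CurvLib.Line
import Groth.Agent.CurvLib.RRBasic

/-!
# Torsion-free extensions of finite length modules by the dualizing module are globally generated
-/

set_option autoImplicit false
set_option linter.style.haveILetI false
set_option backward.isDefEq.respectTransparency false
set_option backward.isDefEq.respectTransparency.types false
set_option maxHeartbeats 1000000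
set_option synthInstance.maxHeartbeats 200000

universe u

open CategoryTheory CategoryTheory.Limits AlgebraicGeometry DevissLib TopologicalSpace DerivedCategory

attribute [local instance] HasDerivedCategory.standard

noncomputable section

namespace CurveDualModLib

open Groth.Agent Groth.Agent.Dual3Lib

theorem subsingleton_H0_of_isZero {Y : Scheme.{u}} {M : Y.Modules} (h : IsZero M) :
    Subsingleton (Coh.HH Y M 0) := by
  refine ((QCohLib.hEquiv ((QCohLib.toAbF Y).obj M) 0).trans
    (QCohLib.h0 (U := (⊤ : Opens Y.toTopCat)))).toEquiv.subsingleton_congr.mpr ?_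
  have hsub : Subsingleton Γ(M, ⊤) := ⟨fun a b => by
    have h1 := congrArg (fun φ : M ⟶ M => φ.app ⊤ a) (h.eq_of_src (𝟙 M) 0)
    have h2 := congrArg (fun φ : M ⟶ M => φ.app ⊤ b) (h.eq_of_src (𝟙 M) 0)
    simp at h1 h2
    rw [h1, h2]⟩
  exact hsub

section Torsion

variable {X : Scheme.{u}} [IsIntegral X]

/-- Exactness on stalks. -/
theorem stalkExact {Y : Scheme.{u}} {S : ShortComplex Y.Modules} (hS : S.Exact) (y : Y)
    (b : (St y).obj S.X₂) (hb : ((St y).map S.g).hom b = 0) :
    ∃ a, ((St y).map S.f).hom a = b :=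
  ((ShortComplex.ShortExact.moduleCat_exact_iff_function_exact _).1 (hS.map (St y)) b).1 hb

/-- A germ with trivial generic germ is torsion. -/
theorem exists_kill {M : X.Modules} (hM : Coh.IsQCoh M)
    (hη : ∀ a : (St (genericPoint X)).obj M, a = 0) (x : X) (a : (St x).obj M) :
    ∃ r : X.presheaf.stalk x, r ≠ 0 ∧ r • a = 0 := by
  obtain ⟨V, hxV, s, rfl⟩ := exists_gm_eq M x a
  obtain ⟨U, hU, hxU, hUV⟩ := exists_isAffineOpen_mem_and_subset (x := x) (U := V) hxV
  have hηU : genericPoint X ∈ U := ((genericPoint_spec X).specializes trivial).mem_open U.2 hxU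
  let s' := M.presheaf.map (homOfLE (show U ≤ V from hUV)).op s
  obtain ⟨r, hr, hrs⟩ := (gm_eq_zero_iff hU (genericPoint X) hηU s').1 (hη _)
  refine ⟨X.presheaf.germ U x hxU r, fun h0 => hr ?_, ?_⟩
  · haveI : Nonempty U := ⟨⟨x, hxU⟩⟩
    have : r = 0 := germ_injective_of_isIntegral X x hxU (h0.trans (map_zero _).symm)
    rw [this]
    exact zero_mem _
  · rw [← gm_map M (show U ≤ V from hUV) x hxU s, ← gm_smul, hrs, gm_zero]

def TF (F : X.Modules) : Prop :=
  ∀ (x : X) (a : X.presheaf.stalk x) (m : (St x).obj F), a • m = 0 → a = 0 ∨ m = 0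

theorem TF.of_mono {A F : X.Modules} (i : A ⟶ F) [Mono i] (h : TF F) : TF A := fun x a m ham => by
  have hi : Function.Injective ((St x).map i).hom := (ModuleCat.mono_iff_injective _).mp inferInstance
  refine (h x a (((St x).map i).hom m) (by rw [← map_smul, ham, map_zero])).imp_right fun h0 => hi ?_
  rw [h0, map_zero]

/-- A module mapping into a generically zero one and injectively into a torsion-free one is zero. -/
theorem isZero_of_torsion {A F Q : X.Modules} (i : A ⟶ F) [Mono i] (j : A ⟶ Q) [Mono j] (hF : TF F)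
    (hQ : Coh.IsQCoh Q) (hη : ∀ a : (St (genericPoint X)).obj Q, a = 0) : IsZero A := by
  refine isZero_of_support_empty (Set.eq_empty_of_forall_notMem fun x hx => ?_)
  obtain ⟨a, ha⟩ := (mem_support_iff_nonzero A x).mp hx
  obtain ⟨r, hr, hra⟩ := exists_kill hQ hη x (((St x).map j).hom a)
  have hj : Function.Injective ((St x).map j).hom := (ModuleCat.mono_iff_injective _).mp inferInstance
  have hra' : r • a = 0 := hj (by rw [map_smul, hra, map_zero])
  exact ha ((TF.of_mono i hF x r a hra').resolve_left hr)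

theorem mono_of_generic {A B : X.Modules} (φ : A ⟶ B) (hA : Coh.IsQCoh A) (hB : Coh.IsQCoh B) (hTF : TF A)
    (h : Function.Injective ((St (genericPoint X)).map φ).hom) : Mono φ := by
  refine Preadditive.mono_of_kernel_zero (IsZero.eq_of_src ?_ _ _)
  refine isZero_of_torsion (kernel.ι φ) (𝟙 _) hTF (@QCohLib.isQCoh_kernel _ _ _ φ hA hB) fun a => ?_
  by_contra ha
  exact notMem_support_kernel φ _ h ((mem_support_iff_nonzero _ _).mpr ⟨a, ha⟩)

theorem eq_zero_of_generic {A B : X.Modules} (φ : A ⟶ B) (hA : Coh.IsQCoh A) (hB : Coh.IsQCoh B) (hTF : TF B)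
    (h : ((St (genericPoint X)).map φ).hom = 0) : φ = 0 := by
  refine CurvLib.eq_zero_of_stalks φ fun x => LinearMap.ext fun a => ?_
  obtain ⟨V, hxV, s, rfl⟩ := exists_gm_eq A x a
  obtain ⟨U, hU, hxU, hUV⟩ := exists_isAffineOpen_mem_and_subset (x := x) (U := V) hxV
  rw [← gm_map A (show U ≤ V from hUV) x hxU s, gm_app]
  generalize A.presheaf.map (homOfLE (show U ≤ V from hUV)).op s = s'
  show gm B x hxU (φ.app U s') = 0
  have hηU : genericPoint X ∈ U := ((genericPoint_spec X).specializes trivial).mem_open U.2 hxU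
  haveI := hB
  obtain ⟨r, hr, hrs⟩ := (gm_eq_zero_iff hU (genericPoint X) hηU (φ.app U s')).1 (by
    rw [← gm_app φ _ hηU s', h]; rfl)
  refine (hTF x (X.presheaf.germ U x hxU r) _ (by rw [← gm_smul, hrs, gm_zero])).resolve_left fun h0 => hr ?_
  haveI : Nonempty U := ⟨⟨x, hxU⟩⟩
  have : r = 0 := germ_injective_of_isIntegral X x hxU (h0.trans (map_zero _).symm)
  rw [this]
  exact zero_mem _

end Torsion

section Main

variable {k : Type u} [Field k] {X : Scheme.{u}} [X.Over (Spec (CommRingCat.of k))]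
  [IsProper (X ↘ Spec (CommRingCat.of k))] [IsIntegral X] [HasExt.{u} X.Modules] {ω : X.Modules}
  {t : (uO X ⟶ (DCoh.inD X ω)⟦((1 : ℕ) : ℤ)⟧) →ₗ[k] k}
  (hωc : Coh.IsCoh ω)
  (h0 : Module.finrank k (Coh.HH X (Coh.structureModule X) 0) = 1)
  (ht : ∀ G : X.Modules, Coh.IsQCoh G → ∀ (j m : ℤ) (h : j + m = ((1 : ℕ) : ℤ)),
    Function.Bijective (FieldDualLib.pairing t G j m h))
  (hgen : ∃ v : (St (genericPoint X)).obj ω, ∀ m, ∃ r : X.presheaf.stalk (genericPoint X), r • v = m)

omit [IsProper (X ↘ Spec (CommRingCat.of k))] [HasExt.{u} X.Modules] in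
/-- A nonzero linear map out of a submodule of a cyclic vector space is injective. -/
theorem injective_of_cyclic {A B : Type u} [AddCommGroup A] [AddCommGroup B]
    [Module (X.presheaf.stalk (genericPoint X)) A] [Module (X.presheaf.stalk (genericPoint X)) B]
    (v : A) (hv : ∀ m, ∃ r : X.presheaf.stalk (genericPoint X), r • v = m)
    (l : A →ₗ[X.presheaf.stalk (genericPoint X)] B) (hl : l ≠ 0) : Function.Injective l := by
  let F : Field (X.presheaf.stalk (genericPoint X)) := (inferInstance : Field X.functionField)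
  refine (injective_iff_map_eq_zero l).2 fun a ha => ?_
  obtain ⟨r, rfl⟩ := hv a
  by_contra hne
  have hr : r ≠ 0 := fun h => hne (by rw [h, zero_smul])
  refine hl (LinearMap.ext fun m => ?_)
  obtain ⟨s, rfl⟩ := hv m
  rw [map_smul] at ha ⊢
  have : l v = 0 := by
    have h' := congrArg (fun z => (r⁻¹) • z) ha
    simpa [smul_smul, inv_mul_cancel₀ hr] using h'
  simp [this]

include hωc h0 ht in
theorem h0_le {F Q : X.Modules} (hdim : topologicalKrullDim X = 1) (hF : Coh.IsCoh F) (hQ : Coh.IsCoh Q)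
    (f : ω ⟶ F) (g : F ⟶ Q) (w : f ≫ g = 0) (hS : (ShortComplex.mk f g w).ShortExact) (htf : TF F)
    (hQ0 : topologicalKrullDim (CohB1.support Q) ≤ 0) (hQ2 : 2 ≤ Module.finrank k (Coh.HH X Q 0))
    (hQη : ∀ a : (St (genericPoint X)).obj Q, a = 0) :
    Module.finrank k (Coh.HH X ω 0) + 1 ≤ Module.finrank k (Coh.HH X F 0) := by
  haveI : IsLocallyNoetherian X := LocallyOfFiniteType.isLocallyNoetherian (X ↘ Spec (CommRingCat.of k))
  haveI : CompactSpace X := QuasiCompact.compactSpace_of_compactSpace (X ↘ Spec (CommRingCat.of k))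
  haveI : AlgebraicGeometry.IsNoetherian X := ⟨⟩
  haveI : TopologicalSpace.NoetherianSpace X := inferInstance
  haveI : Mono f := hS.mono_f
  haveI : Epi g := hS.epi_g
  have hQ1 : Subsingleton (Coh.HH X Q 1) :=
    CurvLib.subsingleton_HH_of_support_dim (d := 0) _ hQ.2 hQ0 1 one_pos
  have hF1 : Subsingleton (Coh.HH X F 1) := by
    refine (h1_zero_or_split hωc.1 h0 ht hdim hF.1 f g w hS.exact hQ1).resolve_right fun ⟨r, hr⟩ => ?_
    let σ := ShortComplex.Splitting.ofExactOfRetraction _ hS.exact r hr inferInstance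
    haveI : IsSplitMono σ.s := IsSplitMono.mk' ⟨g, σ.s_g⟩
    have hsg : σ.s ≫ g = 𝟙 Q := σ.s_g
    haveI : Mono (σ.s ≫ g) := by rw [hsg]; infer_instance
    have hz : IsZero Q := isZero_of_torsion σ.s (σ.s ≫ g) htf hQ.1 hQη
    haveI : Subsingleton (Coh.HH X Q 0) := subsingleton_H0_of_isZero hz
    rw [Module.finrank_zero_of_subsingleton] at hQ2
    omega
  have hω1 : Module.finrank k (Coh.HH X ω 1) = 1 :=
    (FieldDualLib.homEquivHH (k := k) ω 1).finrank_eq.symm.trans (finrank_H1 h0 ht)
  have he := CurvLib.euler_add_of_isCoh (k := k) (S := ShortComplex.mk f g w) hS hωc hF hQ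
  have eF : Curv2.euler k X F = _ := CurvLib.euler_curve (k := k) hdim F
  have eω : Curv2.euler k X ω = _ := CurvLib.euler_curve (k := k) hdim ω
  have eQ : Curv2.euler k X Q = _ := CurvLib.euler_curve (k := k) hdim Q
  have f1 : Module.finrank k (Coh.HH X F 1) = 0 := Module.finrank_zero_of_subsingleton
  have q1 : Module.finrank k (Coh.HH X Q 1) = 0 := Module.finrank_zero_of_subsingleton
  dsimp only at he
  linarith

include hωc ht in
theorem h0_le_of_h1 {G : X.Modules} (hG : Coh.IsCoh G) (hGtf : TF G) (hωtf : TF ω)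
    (a₁ : (St (genericPoint X)).obj G)
    (hGgen : ∀ a, ∃ r : X.presheaf.stalk (genericPoint X), r • a₁ = a)
    (hne : ¬ Subsingleton (Coh.HH X G 1)) :
    Module.finrank k (Coh.HH X G 0) ≤ Module.finrank k (Coh.HH X ω 0) := by
  let η := genericPoint X
  obtain ⟨y, hy⟩ : ∃ y : uO X ⟶ (shiftFunctor (DCoh.D X) ((1 : ℕ) : ℤ)).obj (inH G), y ≠ 0 := by
    by_contra hc
    simp only [not_exists, not_not] at hc
    exact hne ⟨fun a b => (FieldDualLib.homEquivHH (k := k) G 1).symm.injective ((hc _).trans (hc _).symm)⟩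
  obtain ⟨ξ, hξ⟩ : ∃ ξ : Module.Dual k (uO X ⟶ (shiftFunctor (DCoh.D X) ((1 : ℕ) : ℤ)).obj (inH G)), ξ y ≠ 0 := by
    by_contra hc
    simp only [not_exists, not_not] at hc
    exact hy ((Module.forall_dual_apply_eq_zero_iff k y).mp hc)
  obtain ⟨e, he⟩ := (ht G hG.1 0 ((1 : ℕ) : ℤ) (zero_add _)).2 ξ
  obtain ⟨ψ, hψ⟩ := (singleFunctor X.Modules 0).map_surjective (e ≫ (zH ω).hom)
  have hψ0 : ψ ≠ 0 := fun h => hξ (by
    have : e = 0 := by
      rw [← cancel_mono (zH ω).hom, zero_comp, ← hψ, h, Functor.map_zero]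
    rw [← he, this, map_zero]; rfl)
  have hψη : ((St η).map ψ).hom ≠ 0 := fun h => hψ0 (eq_zero_of_generic ψ hG.1 hωc.1 hωtf h)
  haveI : Mono ψ := mono_of_generic ψ hG.1 hωc.1 hGtf (injective_of_cyclic a₁ hGgen _ hψη)
  haveI := CurvLib.finite_HH (k := k) hωc 0
  have hS' : (ShortComplex.mk ψ (cokernel.π ψ) (cokernel.condition ψ)).ShortExact :=
    { exact := ShortComplex.exact_of_g_is_cokernel _ (cokernelIsCokernel ψ), mono_f := ‹_›, epi_g := inferInstance }
  exact LinearMap.finrank_le_finrank_of_injective (CurvLib.injective₀ (k := k) hS')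

omit [IsProper (X ↘ Spec (CommRingCat.of k))] [IsIntegral X] in
theorem hMap_zero_of_sections {F R : X.Modules} (c : F ⟶ R)
    (h : ∀ u : Coh.structureModule X ⟶ F, u ≫ c = 0) (a : Coh.HH X F 0) :
    CurvLib.hMap (k := k) c 0 a = 0 := by
  obtain ⟨u, hu⟩ := (singleFunctor X.Modules 0).map_surjective ((homZero (k := k) F).symm a)
  have hn := FieldDualLib.homEquivHH_natural (k := k) c 0 (mapH u ≫ (zH F).inv)
  have ha : FieldDualLib.homEquivHH (k := k) F 0 (mapH u ≫ (zH F).inv) = a := by
    rw [show mapH u = (homZero (k := k) F).symm a from hu]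
    refine Eq.trans ?_ ((homZero (k := k) F).apply_symm_apply a)
    exact congrArg (FieldDualLib.homEquivHH (k := k) F 0)
      (show _ = (Linear.homCongr k (Iso.refl (uO X)) (zH F).symm) ((homZero (k := k) F).symm a) by
        simp [Linear.homCongr_apply])
  rw [ha] at hn
  refine hn.symm.trans ?_
  have : (mapH u ≫ (zH F).inv) ≫ (shiftFunctor (DCoh.D X) ((0 : ℕ) : ℤ)).map (mapH c) = 0 := by
    have hnat : (zH F).inv ≫ (shiftFunctor (DCoh.D X) (0 : ℤ)).map (mapH c) = mapH c ≫ (zH R).inv :=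
      ((shiftFunctorZero (DCoh.D X) ℤ).inv.naturality (mapH c)).symm
    refine (Category.assoc _ _ _).trans ((congrArg (mapH u ≫ ·) hnat).trans ?_)
    rw [← Category.assoc, show mapH u ≫ mapH c = mapH (u ≫ c) from (Functor.map_comp _ _ _).symm, h,
      show mapH (0 : Coh.structureModule X ⟶ R) = 0 from Functor.map_zero _ _ _, zero_comp]
  exact (congrArg _ this).trans (map_zero _)

omit [IsProper (X ↘ Spec (CommRingCat.of k))] [HasExt.{u} X.Modules] in
/-- A nonzero submodule of a generically cyclic module is everything generically. -/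
theorem generic_of_sub {F : X.Modules} (v : (St (genericPoint X)).obj F)
    (hv : ∀ m, ∃ r : X.presheaf.stalk (genericPoint X), r • v = m) {R : X.Modules} (c : F ⟶ R) [Epi c]
    (a₁ : (St (genericPoint X)).obj (kernel c)) (ha₁ : a₁ ≠ 0) :
    (∀ a, ∃ r : X.presheaf.stalk (genericPoint X), r • a₁ = a) ∧ genericPoint X ∉ CohB1.support R := by
  let η := genericPoint X
  let F' : Field (X.presheaf.stalk η) := (inferInstance : Field X.functionField)
  have hι : Function.Injective ((St η).map (kernel.ι c)).hom :=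
    (ModuleCat.mono_iff_injective _).mp inferInstance
  obtain ⟨r₁, hr₁⟩ := hv (((St η).map (kernel.ι c)).hom a₁)
  have hr₁0 : r₁ ≠ 0 := fun h => ha₁ (hι (by rw [← hr₁, h, zero_smul, map_zero]))
  have key : ∀ m, ∃ r : X.presheaf.stalk η, ((St η).map (kernel.ι c)).hom (r • a₁) = m := fun m => by
    obtain ⟨r, hr⟩ := hv m
    exact ⟨r * r₁⁻¹, by rw [map_smul, ← hr₁, smul_smul, mul_assoc, inv_mul_cancel₀ hr₁0, mul_one, hr]⟩
  refine ⟨fun a => ?_, fun hη => ?_⟩
  · obtain ⟨r, hr⟩ := key (((St η).map (kernel.ι c)).hom a)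
    exact ⟨r, hι hr⟩
  · obtain ⟨b, hb⟩ := (mem_support_iff_nonzero _ _).mp hη
    obtain ⟨m, rfl⟩ := (ModuleCat.epi_iff_surjective ((St η).map c)).mp inferInstance b
    refine hb ?_
    obtain ⟨r, rfl⟩ := key m
    show ((St η).map (kernel.ι c) ≫ (St η).map c).hom _ = 0
    rw [← Functor.map_comp, kernel.condition, Functor.map_zero]
    rfl

include hωc h0 ht hgen in
theorem globallyGenerated (hdim : topologicalKrullDim X = 1) {F Q : X.Modules} (hF : Coh.IsCoh F)
    (hQ : Coh.IsCoh Q) (f : ω ⟶ F) (g : F ⟶ Q) (w : f ≫ g = 0) (hS : (ShortComplex.mk f g w).ShortExact)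
    (htf : TF F) (hQ0 : topologicalKrullDim (CohB1.support Q) ≤ 0)
    (hQ2 : 2 ≤ Module.finrank k (Coh.HH X Q 0)) : Curv2.IsGloballyGenerated F := by
  haveI : IsLocallyNoetherian X := LocallyOfFiniteType.isLocallyNoetherian (X ↘ Spec (CommRingCat.of k))
  haveI : CompactSpace X := QuasiCompact.compactSpace_of_compactSpace (X ↘ Spec (CommRingCat.of k))
  haveI : AlgebraicGeometry.IsNoetherian X := ⟨⟩
  haveI : TopologicalSpace.NoetherianSpace X := inferInstance
  haveI : Mono f := hS.mono_f
  haveI : Epi g := hS.epi_g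
  haveI := hF.1
  haveI := hQ.1
  let η := genericPoint X
  -- finite support
  have hQη : ∀ a : (St η).obj Q, a = 0 := fun a => by
    by_contra ha
    obtain ⟨hfin, hcl⟩ := CurvLib.finite_support_data k hQ hQ0
    obtain ⟨y, hy⟩ := exists_ne hdim η
    have hsp : η ⤳ y := (genericPoint_spec X).specializes trivial
    have hmem : y ∈ ({η} : Set X) := hsp.mem_closed
      (hcl η ((mem_support_iff_nonzero Q η).mpr ⟨a, ha⟩)) (Set.mem_singleton η)
    exact hy hmem
  have hh0 := h0_le hωc h0 ht hdim hF hQ f g w hS htf hQ0 hQ2 hQη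
  -- the generated submodule
  let p : (SheafOfModules.free F.sections : X.Modules) ⟶ F := F.freeHomEquiv.symm id
  refine ⟨F.sections, p, ?_⟩
  by_contra hepi
  have hpQ : Coh.IsQCoh (SheafOfModules.free F.sections : X.Modules) :=
    inferInstanceAs ((SheafOfModules.free F.sections : X.Modules).IsQuasicoherent)
  let c := cokernel.π p
  have hR : Coh.IsCoh (cokernel p) := QCohLib.isCoh_cokernel p hpQ hF
  have hG : Coh.IsCoh (kernel c) := QCohLib.isCoh_kernel c hF hR.1
  have hGtf : TF (kernel c) := TF.of_mono (kernel.ι c) htf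
  have hωtf : TF ω := TF.of_mono f htf
  have hsF : ∀ u : Coh.structureModule X ⟶ F, u ≫ c = 0 := fun u => by
    have hu : SheafOfModules.ιFree (F.unitHomEquiv u) ≫ p = u := by
      rw [← SheafOfModules.unitHomEquiv_symm_freeHomEquiv_apply]
      show F.unitHomEquiv.symm ((F.freeHomEquiv (F.freeHomEquiv.symm id)) _) = u
      rw [Equiv.apply_symm_apply, id_eq, Equiv.symm_apply_apply]
    rw [← hu, Category.assoc, cokernel.condition, comp_zero]
  have hSR := shortExact_kernel c
  have hcz : ∀ a, CurvLib.hMap (k := k) c 0 a = 0 := hMap_zero_of_sections c hsF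
  have hGF : Function.Surjective (CurvLib.hMap (k := k) (kernel.ι c) 0) := fun a => by
    have ha : a ∈ LinearMap.ker (CurvLib.hMap (k := k) c 0) := hcz a
    rw [← CurvLib.exact₂ hSR 0] at ha
    exact ha
  haveI := CurvLib.finite_HH (k := k) hG 0
  haveI := CurvLib.finite_HH (k := k) hωc 0
  have hh0G : Module.finrank k (Coh.HH X ω 0) + 1 ≤ Module.finrank k (Coh.HH X (kernel c) 0) :=
    hh0.trans (LinearMap.finrank_le_finrank_of_surjective hGF)
  -- generically everything
  obtain ⟨v, hv⟩ := hgen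
  have hfη : Function.Surjective ((St η).map f).hom := fun b =>
    stalkExact hS.exact η b (hQη _)
  have hFgen : ∀ m : (St η).obj F, ∃ r : X.presheaf.stalk η, r • ((St η).map f).hom v = m := fun m => by
    obtain ⟨b, rfl⟩ := hfη m
    obtain ⟨r, rfl⟩ := hv b
    exact ⟨r, (map_smul _ _ _).symm⟩
  have hιη : Function.Injective ((St η).map (kernel.ι c)).hom :=
    (ModuleCat.mono_iff_injective _).mp inferInstance
  obtain ⟨a₁, ha₁⟩ : ∃ a : (St η).obj (kernel c), a ≠ 0 := by
    by_contra hc
    simp only [not_exists, not_not] at hc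
    haveI : Mono (𝟙 (kernel c)) := inferInstance
    have hz : IsZero (kernel c) := isZero_of_torsion (𝟙 _) (𝟙 _) hGtf hG.1 hc
    haveI : Subsingleton (Coh.HH X (kernel c) 0) := subsingleton_H0_of_isZero hz
    rw [Module.finrank_zero_of_subsingleton (M := Coh.HH X (kernel c) 0)] at hh0G
    omega
  obtain ⟨hGgen, hRη⟩ := generic_of_sub (((St η).map f).hom v) hFgen c a₁ ha₁
  have hR0 : topologicalKrullDim (CohB1.support (cokernel p)) ≤ 0 :=
    CurvLib.topologicalKrullDim_le_zero_of_lt hdim (QCohLib.isClosed_support _ hR.2)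
      fun h => hRη (h ▸ Set.mem_univ _)
  -- the cokernel has no sections
  have hGne : ¬ Subsingleton (Coh.HH X (kernel c) 1) := fun hs => by
    refine hepi (Preadditive.epi_of_isZero_cokernel _ (CurvLib.isZero_of_h0 (k := k) hR hR0 ?_))
    haveI : Subsingleton (Coh.HH X (cokernel p) 0) := ⟨fun a b => by
      obtain ⟨a', rfl⟩ := surjective_right (k := k) hSR 0 hs a
      obtain ⟨b', rfl⟩ := surjective_right (k := k) hSR 0 hs b
      rw [hcz, hcz]⟩
    exact Module.finrank_zero_of_subsingleton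
  have hle := h0_le_of_h1 hωc ht hG hGtf hωtf a₁ hGgen hGne
  omega

end Main

end CurveDualModLib
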