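import Groth.Agent.DualCxLib.Chart
import Groth.Agent.DualCxLib.SchGor
import Groth.Agent.DualCxLib.QuotDual
import Groth.Agent.Dual3Lib.AmplitudeField
import Groth.Agent.HensSchLib.Flat
import Groth.Agent.DevissLib.Stalk
import Groth.Prelude.Def_DDual2

/-!
# The dualizing module of an integral curve at its generic point
-/

set_option autoImplicit false
set_option linter.style.haveILetI false
set_option backward.isDefEq.respectTransparency false
set_option backward.isDefEq.respectTransparency.types false
set_option maxHeartbeats 1000000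
set_option synthInstance.maxHeartbeats 200000

universe u

open CategoryTheory CategoryTheory.Limits AlgebraicGeometry DevissLib

attribute [local instance] HasDerivedCategory.standard

noncomputable section

namespace CurveDualModLib

open Groth.Agent

/-- The generic stalk of a cohomology module of the dualizing complex is cyclic. -/
theorem exists_gen_generic {k : Type u} [Field k] {X : Scheme.{u}} [IsIntegral X]
    (f : X ⟶ Spec (CommRingCat.of k)) [IsProper f] [DCoh.HasRpush f] (hf : DCoh.RpushPreservesQCoh f)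
    (a : DCoh.DQCoh (Spec (CommRingCat.of k)) ⥤ DCoh.DQCoh X) (adj : DCoh.RpushQ f hf ⊣ a)
    (O : DCoh.DQCoh (Spec (CommRingCat.of k)))
    (eO : O.obj ≅ DCoh.inD (Spec (CommRingCat.of k)) (Coh.structureModule (Spec (CommRingCat.of k))))
    (d : ℕ) (hd : topologicalKrullDim X ≤ d) (i : ℤ) :
    ∃ v : (DCoh.HD (a.obj O).obj i).presheaf.stalk (genericPoint X),
      ∀ m, ∃ r : X.presheaf.stalk (genericPoint X), r • v = m := by
  haveI : IsLocallyNoetherian X := LocallyOfFiniteType.isLocallyNoetherian f
  haveI : ∀ (U V : Scheme.{u}) (j : U ⟶ V) [IsOpenImmersion j],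
      PreservesFiniteLimits (Scheme.Modules.restrictFunctor j) := fun U V j _ => inferInstance
  haveI : ∀ (B : CommRingCat.{u}), PreservesFiniteLimits (tilde.functor B) := fun B =>
    HensSchLib.tilde_preservesFiniteLimits B
  obtain ⟨hdual, -, -⟩ := Dual3Lib.amplitude f hf a adj O eO d hd
  let x := genericPoint X
  let M := DCoh.HD (a.obj O).obj i
  show ∃ v : M.presheaf.stalk x, ∀ m, ∃ r : X.presheaf.stalk x, r • v = m
  obtain ⟨U, hU, hxU, -⟩ := exists_isAffineOpen_mem_and_subset (x := x) (U := ⊤) trivial
  haveI := hU.isOpenImmersion_fromSpec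
  haveI := IsLocallyNoetherian.component_noetherian ⟨U, hU⟩
  haveI : Coh.IsQCoh M := DualCxLib.isQCoh_HD hdual i
  obtain ⟨ω, hω, ⟨e⟩⟩ := hdual Γ(X, U) hU.fromSpec
  let p := hU.primeIdealOf ⟨x, hxU⟩
  letI := Module.compHom (M.presheaf.stalk x) (X.presheaf.germ U x hxU).hom
  letI : Algebra Γ(X, U) (X.presheaf.stalk x) := (X.presheaf.germ U x hxU).hom.toAlgebra
  haveI : IsScalarTower Γ(X, U) (X.presheaf.stalk x) (M.presheaf.stalk x) :=
    IsScalarTower.of_algebraMap_smul fun _ _ => rfl
  haveI hloc : IsLocalization.AtPrime (X.presheaf.stalk x) p.asIdeal := hU.isLocalization_stalk ⟨x, hxU⟩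
  haveI := FlatLib.isLocalizedModule_germLin M hU hxU
  let g := (FlatLib.germLin M hxU).comp (DualCxLib.sectionsHD hU e i).toLinearMap
  haveI : IsLocalizedModule p.asIdeal.primeCompl g := IsLocalizedModule.of_linearEquiv_right _ _ _
  let ι := IsLocalizedModule.iso p.asIdeal.primeCompl g
  have hgor : LocCoh.IsGorensteinLocalRing (Localization.AtPrime p.asIdeal) := by
    let eR : Localization.AtPrime p.asIdeal ≃+* X.functionField :=
      (IsLocalization.algEquiv p.asIdeal.primeCompl _ (X.presheaf.stalk x)).toRingEquiv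
    exact GorLib.gorenstein_of_ringEquiv eR (DualCxLib.gorenstein_of_regular X.functionField)
  obtain ⟨j, hz, ⟨q⟩⟩ := (DualCxLib.gorenstein_atPrime_iff p hω).1 hgor
  by_cases hij : i = j
  · subst hij
    refine ⟨ι (q.symm 1), fun m => ?_⟩
    obtain ⟨y, rfl⟩ := ι.surjective m
    obtain ⟨b, s, hbs⟩ := IsLocalization.exists_mk'_eq p.asIdeal.primeCompl (q y)
    have hu : IsUnit (X.presheaf.germ U x hxU s.1) := IsLocalization.map_units (X.presheaf.stalk x) s
    have hy : s.1 • y = b • q.symm 1 := by
      apply q.injective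
      rw [← IsScalarTower.algebraMap_smul (Localization.AtPrime p.asIdeal) s.1 y, map_smul,
        ← IsScalarTower.algebraMap_smul (Localization.AtPrime p.asIdeal) b (q.symm 1), map_smul,
        LinearEquiv.apply_symm_apply, ← hbs, smul_eq_mul, smul_eq_mul, mul_one, IsLocalization.mk'_spec']
    refine ⟨↑hu.unit⁻¹ * X.presheaf.germ U x hxU b, ?_⟩
    have h1 : X.presheaf.germ U x hxU s.1 • ι y = X.presheaf.germ U x hxU b • ι (q.symm 1) := by
      show s.1 • ι y = b • ι (q.symm 1)
      rw [← map_smul, ← map_smul, hy]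
    rw [mul_smul, ← h1, ← mul_smul, hu.val_inv_mul, one_smul]
  · refine ⟨0, fun m => ⟨0, ?_⟩⟩
    haveI : Subsingleton (LocalizedModule p.asIdeal.primeCompl (Dual.HD Γ(X, U) ω i)) :=
      Module.notMem_support_iff.1 (hz i hij)
    haveI : Subsingleton (M.presheaf.stalk x) := ι.symm.toEquiv.subsingleton
    exact Subsingleton.elim _ _

end CurveDualModLib
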