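import Groth.Agent.RefHullLib.Coherent
import Groth.Agent.GenusZeroLib.Mult
import Groth.Prelude.Def_KLin

/-!
# Morphisms are the global sections of the sheaf Hom
-/

set_option autoImplicit false
set_option linter.style.haveILetI false
set_option backward.isDefEq.respectTransparency false
set_option backward.isDefEq.respectTransparency.types false
set_option maxHeartbeats 1000000

universe u

open CategoryTheory CategoryTheory.Limits AlgebraicGeometry TopologicalSpace Opposite

noncomputable section

namespace CurveDualModLib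

variable {X : Scheme.{u}} {F G : X.Modules}

/-- The values of a global section of the sheaf Hom on an open. -/
def secFun (g : Γ(RefHull.homSh F G, ⊤)) (U : X.Opens) (a : Γ(F, U)) : Γ(G, U) :=
  RefHullLib.app ((RefHull.homSh F G).presheaf.map (homOfLE (le_top : U ≤ ⊤)).op g) a

theorem germ_secFun (g : Γ(RefHull.homSh F G, ⊤)) (U : X.Opens) (a : Γ(F, U)) (y : X) (hy : y ∈ U) :
    G.presheaf.germ U y hy (secFun g U a) = g.1 ⟨y, trivial⟩ (F.presheaf.germ U y hy a) :=
  (RefHullLib.germ_app _ a y hy).trans rfl

theorem secFun_ext {U : X.Opens} (s t : Γ(G, U))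
    (h : ∀ y (hy : y ∈ U), G.presheaf.germ U y hy s = G.presheaf.germ U y hy t) : s = t :=
  ProjFormLib.section_ext s t h

/-- The morphism of a global section of the sheaf Hom. -/
def toHom (g : Γ(RefHull.homSh F G, ⊤)) : F ⟶ G :=
  ⟨PresheafOfModules.homMk
    { app := fun U => AddCommGrpCat.ofHom
        { toFun := secFun g U.unop
          map_zero' := secFun_ext _ _ fun y hy => by rw [germ_secFun, map_zero, map_zero, map_zero]
          map_add' := fun a b => secFun_ext _ _ fun y hy => by
            rw [germ_secFun, map_add, map_add, map_add, germ_secFun, germ_secFun] }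
      naturality := fun {U V} i => by
        ext a
        change secFun g V.unop (F.presheaf.map i a) = G.presheaf.map i (secFun g U.unop a)
        refine secFun_ext _ _ fun y hy => ?_
        rw [germ_secFun, TopCat.Presheaf.germ_res_apply', TopCat.Presheaf.germ_res_apply', germ_secFun] }
    (fun U r a => by
      change secFun g U.unop ((show Γ(X, U.unop) from r) • (show Γ(F, U.unop) from a)) =
        (show Γ(X, U.unop) from r) • secFun g U.unop a
      refine secFun_ext _ _ fun y hy => ?_
      rw [germ_secFun, Mero.germ_smul, Mero.germ_smul, map_smul, germ_secFun])⟩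

theorem stalkMap_toHom (g : Γ(RefHull.homSh F G, ⊤)) (y : (⊤ : X.Opens)) :
    RefHull.stalkMapₗ (toHom g) y.1 = g.1 y := by
  refine LinearMap.ext fun v => ?_
  obtain ⟨U, hU, a, rfl⟩ := TopCat.Presheaf.exists_germ_eq F.presheaf (x := y.1) v
  rw [RefHull.stalkMapₗ_germ]
  exact germ_secFun g U a y.1 hU

theorem ofHom_toHom (g : Γ(RefHull.homSh F G, ⊤)) : RefHull.ofHom (toHom g) ⊤ = g :=
  RefHullLib.hom_sec_ext _ _ fun y => stalkMap_toHom g y

theorem toHom_ofHom (φ : F ⟶ G) : toHom (RefHull.ofHom φ ⊤) = φ := by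
  refine Scheme.Modules.hom_ext _ _ fun U => ?_
  ext a
  refine secFun_ext _ _ fun y hy => ?_
  exact (germ_secFun _ U a y hy).trans (RefHull.stalkMapₗ_germ φ y hy a)

variable (k : Type u) [Field k] [X.Over (Spec (CommRingCat.of k))] (F G)

/-- Morphisms are the global sections of the sheaf Hom, linearly. -/
def homSections : letI := GenusZeroLib.kmod k (RefHull.homSh F G); (F ⟶ G) ≃ₗ[k] Γ(RefHull.homSh F G, ⊤) :=
  letI := GenusZeroLib.kmod k (RefHull.homSh F G)
  { toFun := fun φ => RefHull.ofHom φ ⊤
    invFun := toHom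
    left_inv := toHom_ofHom
    right_inv := ofHom_toHom
    map_add' := fun φ ψ => RefHullLib.hom_sec_ext _ _ fun y => by
      refine LinearMap.ext fun v => ?_
      obtain ⟨U, hU, a, rfl⟩ := TopCat.Presheaf.exists_germ_eq F.presheaf (x := y.1) v
      change RefHull.stalkMapₗ (φ + ψ) y.1 _ = RefHull.stalkMapₗ φ y.1 _ + RefHull.stalkMapₗ ψ y.1 _
      rw [RefHull.stalkMapₗ_germ, RefHull.stalkMapₗ_germ, RefHull.stalkMapₗ_germ, ← map_add]
      rfl
    map_smul' := fun c φ => RefHullLib.hom_sec_ext _ _ fun y => by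
      refine LinearMap.ext fun v => ?_
      obtain ⟨U, hU, a, rfl⟩ := TopCat.Presheaf.exists_germ_eq F.presheaf (x := y.1) v
      change RefHull.stalkMapₗ (c • φ) y.1 _ =
        X.presheaf.germ ⊤ y.1 y.2 (GenusZeroLib.ρ k c) • RefHull.stalkMapₗ φ y.1 _
      rw [RefHull.stalkMapₗ_germ, RefHull.stalkMapₗ_germ, KLin.smul_app_apply, Mero.germ_smul,
        TopCat.Presheaf.germ_res_apply]
      rfl }


/-- `Hom(F, G) = H⁰(𝓗om(F, G))`. -/
theorem finrank_hom_eq : Module.finrank k (F ⟶ G) = Module.finrank k (Coh.HH X (RefHull.homSh F G) 0) := by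
  letI := GenusZeroLib.kmod k (RefHull.homSh F G)
  exact ((homSections F G k).trans (GenusZeroLib.e0k k (RefHull.homSh F G)).symm).finrank_eq

end CurveDualModLib
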