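import Groth.Agent.TFDualLib.Canonical
import Groth.Agent.DualCxLib.DepthApps
import Groth.Agent.DualCxLib.SchGor
import Groth.Agent.ProjLib.Auslander
import Groth.Agent.AssPointLib.S1

/-!
# The dualizing module of a one-dimensional local domain
-/

set_option autoImplicit false
set_option linter.style.haveILetI false
set_option backward.isDefEq.respectTransparency false
set_option backward.isDefEq.respectTransparency.types false
set_option maxHeartbeats 1000000
set_option synthInstance.maxHeartbeats 200000

universe u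

open CategoryTheory CategoryTheory.Limits
open Groth.Agent DTen
open DTenLib.Point (hH sg)

attribute [local instance] HasDerivedCategory.standard

noncomputable section

namespace CurveDualModLib

open Groth.Agent.DualCxLib

variable {A : Type u} [CommRing A] [IsNoetherianRing A]

/-- An object with one cohomology module is a shift of that module. -/
theorem exists_iso_shift {ω : Dual.D A} (e : ℤ) (hz : ∀ i, i ≠ e → Subsingleton (Dual.HD A ω i))
    {W : Type u} [AddCommGroup W] [Module A W] (q : Dual.HD A ω e ≃ₗ[A] W) :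
    Nonempty (ω ≅ (Dual.inD A W)⟦-e⟧) := by
  haveI : ω.IsGE e := (DerivedCategory.isGE_iff ω e).2 fun i hi => by
    haveI := hz i (by omega)
    exact ModuleCat.isZero_of_subsingleton _
  haveI : ω.IsLE e := (DerivedCategory.isLE_iff ω e).2 fun i hi => by
    haveI := hz i (by omega)
    exact ModuleCat.isZero_of_subsingleton _
  obtain ⟨c⟩ := Groth.Agent.DerLib.Devissage.nonempty_iso_single ω e
  let s : sg (ModuleCat.of A W) e ≅ (sg (ModuleCat.of A W) 0)⟦-e⟧ :=
    eqToIso (by simp) ≪≫ (DTenLib.Point.shiftSg (ModuleCat.of A W) 0 (-e)).symm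
  exact ⟨c ≪≫ (DerivedCategory.singleFunctor (ModuleCat.{u} A) e).mapIso q.toModuleIso ≪≫ s⟩

variable [IsDomain A] [IsLocalRing A] {Z : Dual.D A} {W : Type u} [AddCommGroup W] [Module A W]

/-- Homs into shifts of `W` through the complex. -/
def shiftIso {c : ℤ} (e : Z ≅ (Dual.inD A W)⟦-c⟧) (i : ℤ) : Z⟦c + i⟧ ≅ (Dual.inD A W)⟦i⟧ :=
  (shiftFunctor (Dual.D A) (c + i)).mapIso e ≪≫
    ((shiftFunctorAdd' (Dual.D A) (-c) (c + i) i (by omega)).app _).symm

theorem subsingleton_ext_iff {c : ℤ} (e : Z ≅ (Dual.inD A W)⟦-c⟧) (M : Type u) [AddCommGroup M] [Module A M] (i : ℕ) :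
    Subsingleton (Abelian.Ext.{u} (ModuleCat.of A M) (ModuleCat.of A W) i) ↔
      Subsingleton (DualCxLib.Ext Z (ModuleCat.of A M) (c + i)) :=
  (Abelian.Ext.homAddEquiv (X := ModuleCat.of A M) (Y := ModuleCat.of A W) (n := i)).toEquiv.subsingleton_congr.trans
    ((Iso.refl (sg (ModuleCat.of A M) 0)).homCongr (shiftIso e (i : ℤ))).symm.subsingleton_congr

theorem subsingleton_hom_iff {c : ℤ} (e : Z ≅ (Dual.inD A W)⟦-c⟧) (M : Type u) [AddCommGroup M] [Module A M] :
    Subsingleton (M →ₗ[A] W) ↔ Subsingleton (DualCxLib.Ext Z (ModuleCat.of A M) c) := by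
  have h := subsingleton_ext_iff e M 0
  rw [Nat.cast_zero, add_zero] at h
  exact ((Abelian.Ext.addEquiv₀ (X := ModuleCat.of A M) (Y := ModuleCat.of A W)).trans
    ModuleCat.homAddEquiv).symm.toEquiv.subsingleton_congr.trans h

/-- **The dualizing module of a one-dimensional local domain.** -/
theorem dualising (hZ : Dual.IsDualizing A Z) (hdim : ringKrullDim A = 1) [Module.Finite A W] {c : ℤ}
    (e : Z ≅ (Dual.inD A W)⟦-c⟧) :
    TFDualLib.Dualising A W ∧ Nontrivial W ∧ NoZeroSMulDivisors A W := by
  set n := DualCxLib.deg hZ (closedPt A) with hn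
  haveI : Ring.KrullDimLE 1 A := Ring.krullDimLE_iff.2 (by rw [hdim]; exact le_rfl)
  -- endomorphisms are scalars
  have hend : ∀ φ : W →ₗ[A] W, ∃ o : A, ∀ w, φ w = o • w := fun φ => by
    let φD : (Dual.inD A W)⟦-c⟧ ⟶ (Dual.inD A W)⟦-c⟧ :=
      (shiftFunctor (Dual.D A) (-c)).map ((DerivedCategory.singleFunctor (ModuleCat.{u} A) 0).map (ModuleCat.ofHom φ))
    obtain ⟨o, ho⟩ := hZ.toEnd_bijective.2 (e.hom ≫ φD ≫ e.inv)
    have hφD : φD = o • 𝟙 _ := by
      rw [← cancel_epi e.hom, ← cancel_mono e.inv, Category.assoc, ← ho]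
      simp
    have h1 : (DerivedCategory.singleFunctor (ModuleCat.{u} A) 0).map (ModuleCat.ofHom φ) =
        o • 𝟙 ((DerivedCategory.singleFunctor (ModuleCat.{u} A) 0).obj (ModuleCat.of A W)) :=
      (shiftFunctor (Dual.D A) (-c)).map_injective (by rw [Functor.map_smul, CategoryTheory.Functor.map_id]; exact hφD)
    have h2 : ModuleCat.ofHom φ = o • 𝟙 (ModuleCat.of A W) :=
      (DerivedCategory.singleFunctor (ModuleCat.{u} A) 0).map_injective (by
        rw [Functor.map_smul, CategoryTheory.Functor.map_id]; exact h1)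
    exact ⟨o, fun w => LinearMap.congr_fun (congrArg ModuleCat.Hom.hom h2) w⟩
  -- the degrees
  have hdeg : ∀ q : PrimeSpectrum A, q = closedPt A ∨ DualCxLib.deg hZ q = n - 1 := fun q => by
    by_cases hq : q.asIdeal = ⊥
    · right
      have h1 := ringKrullDim_quotient_eq hZ q
      rw [ringKrullDim_eq_of_ringEquiv ((Ideal.quotEquivOfEq hq).trans (RingEquiv.quotientBot A)), hdim] at h1
      have h2 : (1 : ℕ) = (DualCxLib.deg hZ (closedPt A) - DualCxLib.deg hZ q).toNat :=
        ENat.natCast_inj.1 (WithBot.coe_inj.1 h1)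
      omega
    · left
      exact PrimeSpectrum.ext (IsLocalRing.eq_maximalIdeal (q.2.isMaximal_of_ne_bot hq))
  have hgt : ∀ (M : Type u) [AddCommGroup M] [Module A M] [Module.Finite A M] (i : ℤ), n < i →
      Subsingleton (DualCxLib.Ext Z (ModuleCat.of A M) i) := fun M _ _ _ i hi =>
    subsingleton_of_van_closedPt (van_of_gt hZ (closedPt A) i hi)
  have hlt : ∀ (M : Type u) [AddCommGroup M] [Module A M] [Module.Finite A M] (i : ℤ), i < n - 1 →
      Subsingleton (DualCxLib.Ext Z (ModuleCat.of A M) i) := fun M _ _ _ i hi =>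
    subsingleton_of_van_closedPt (van_of_lt hZ (closedPt A) i fun q _ _ => by
      rcases hdeg q with rfl | h <;> omega)
  have htop : ∀ (M : Type u) [AddCommGroup M] [Module A M] [Module.Finite A M] [NoZeroSMulDivisors A M],
      Subsingleton (DualCxLib.Ext Z (ModuleCat.of A M) n) := fun M _ _ _ _ => by
    have hd : ((1 : ℕ) : ℕ∞) ≤ LocCoh.depth A M := by
      rcases subsingleton_or_nontrivial M with hM | hM
      · have : IsLocalRing.maximalIdeal A • (⊤ : Submodule A M) = ⊤ := Subsingleton.elim _ _
        show _ ≤ LocCoh.idealDepth (IsLocalRing.maximalIdeal A) M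
        unfold LocCoh.idealDepth
        rw [if_pos this]
        exact le_top
      · rw [Nat.cast_one, AssPointLib.one_le_depth_iff]
        intro hass
        obtain ⟨-, m, hm⟩ := isAssociatedPrime_iff.1 hass
        obtain ⟨r, hr, hr0⟩ := Submodule.exists_mem_ne_zero_of_ne_bot
          (show IsLocalRing.maximalIdeal A ≠ ⊥ from fun h => by
            have := IsLocalRing.isField_iff_maximalIdeal_eq.2 h
            rw [ringKrullDim_eq_zero_of_isField this] at hdim
            exact zero_ne_one hdim)
        rw [hm, Submodule.mem_colon_singleton, Submodule.mem_bot] at hr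
        rcases smul_eq_zero.1 hr with h | h
        · exact hr0 h
        · rw [h] at hm
          exact (IsLocalRing.maximalIdeal.isMaximal A).ne_top (by rw [hm]; ext; simp)
    rw [depth_eq_depth_closedPt M] at hd
    have := (le_depth_iff_van hZ (closedPt A) 1 M).1 hd 0 one_pos
    rw [Nat.cast_zero, sub_zero] at this
    exact subsingleton_of_van_closedPt this
  haveI hWnt : Nontrivial W := by
    by_contra hW
    rw [not_nontrivial_iff_subsingleton] at hW
    have h0 : IsZero Z := IsZero.of_iso (Functor.map_isZero _ (Functor.map_isZero _ (ModuleCat.isZero_of_subsingleton _))) e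
    exact zero_ne_one (α := A) (hZ.toEnd_bijective.1 (h0.eq_of_src _ _))
  have hc : c = n - 1 := by
    have hnt : ¬ Subsingleton (DualCxLib.Ext Z (ModuleCat.of A A) c) := fun h => by
      have := (subsingleton_hom_iff e A).2 h
      exact not_subsingleton W ((LinearMap.ringLmapEquivSelf A A W).toEquiv.subsingleton_congr.1 this)
    rcases lt_trichotomy c (n - 1) with h | h | h
    · exact absurd (hlt A c h) hnt
    · exact h
    · rcases eq_or_lt_of_le (show n ≤ c by omega) with h' | h'
      · exact absurd (h' ▸ htop A) hnt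
      · exact absurd (hgt A c h') hnt
  haveI htf : NoZeroSMulDivisors A W := ⟨fun {r} {w} h => by
    by_contra hh
    simp only [not_or] at hh
    obtain ⟨hr, hw⟩ := hh
    have hsub : Subsingleton ((A ⧸ Ideal.span {r}) →ₗ[A] W) := by
      refine (subsingleton_hom_iff e _).2 (subsingleton_of_van_closedPt (van_of_lt hZ (closedPt A) c fun q hq _ => ?_))
      rcases hdeg q with rfl | hq'
      · omega
      · exfalso
        have hrq : r ∈ q.asIdeal := by
          rw [Module.support_eq_zeroLocus, Ideal.annihilator_quotient] at hq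
          exact hq (Ideal.mem_span_singleton_self r)
        rcases hdeg q with h | h
        · subst h; omega
        · have := ringKrullDim_quotient_eq hZ q
          have hne : q.asIdeal ≠ ⊥ := fun hb => hr (by rw [hb] at hrq; exact hrq)
          have hqm := PrimeSpectrum.ext (x := q) (y := closedPt A) (IsLocalRing.eq_maximalIdeal (q.2.isMaximal_of_ne_bot hne))
          subst hqm
          omega
    let l : (A ⧸ Ideal.span {r}) →ₗ[A] W :=
      Submodule.liftQ _ (LinearMap.toSpanSingleton A W w) ((Ideal.span_singleton_le_iff_mem _).2 h)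
    refine hw ?_
    have := LinearMap.congr_fun (hsub.elim l 0) (Submodule.Quotient.mk 1)
    exact (one_smul A w).symm.trans this⟩
  refine ⟨⟨fun M _ _ _ _ i hi => (subsingleton_ext_iff e M i).2 ?_, hend⟩, inferInstance, inferInstance⟩
  rcases eq_or_lt_of_le hi with h | h
  · subst h
    rw [hc, Nat.cast_one, sub_add_cancel]
    exact htop M
  · exact hgt M _ (by omega)

end CurveDualModLib
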