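import Groth.Agent.CurveDualModLib.CM
import Groth.Agent.CurveDualModLib.Dual
import Groth.Prelude.Def_DDual2

set_option autoImplicit false
set_option linter.style.haveILetI false
set_option backward.isDefEq.respectTransparency false
set_option backward.isDefEq.respectTransparency.types false
set_option maxHeartbeats 1000000

universe u

open CategoryTheory CategoryTheory.Limits AlgebraicGeometry

attribute [local instance] HasDerivedCategory.standard

noncomputable section

namespace CurveDualModLib

open Groth.Agent Groth.Agent.Dual3Lib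

/-- Duality for the dualizing module of a curve with `h⁰(O) = 1`. -/
theorem exists_pairing {k : Type u} [Field k] {X : Scheme.{u}} [X.Over (Spec (CommRingCat.of k))]
    [IsProper (X ↘ Spec (CommRingCat.of k))] (hdim : topologicalKrullDim X = 1)
    (h0 : Module.finrank k (Coh.HH X (Coh.structureModule X) 0) = 1)
    [DCoh.HasRpush (X ↘ Spec (CommRingCat.of k))] (h : DCoh.RpushPreservesQCoh (X ↘ Spec (CommRingCat.of k)))
    [DCoh.HasShriek (X ↘ Spec (CommRingCat.of k)) h] (OY : DCoh.DQCoh (Spec (CommRingCat.of k)))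
    (hOY : Nonempty (OY.obj ≅ DCoh.inD (Spec (CommRingCat.of k)) (Coh.structureModule (Spec (CommRingCat.of k))))) :
    Coh.IsCoh (DCoh.dualizingMod (X ↘ Spec (CommRingCat.of k)) h OY 1) ∧
      ∃ t : (uO X ⟶ (DCoh.inD X (DCoh.dualizingMod (X ↘ Spec (CommRingCat.of k)) h OY 1))⟦((1 : ℕ) : ℤ)⟧) →ₗ[k] k,
        ∀ G : X.Modules, Coh.IsQCoh G → ∀ (j m : ℤ) (hjm : j + m = ((1 : ℕ) : ℤ)),
          Function.Bijective (FieldDualLib.pairing t G j m hjm) :=
  FieldDualLib.exists_duality (k := k) (isCM (k := k) h0 hdim) 1 (fun Z hZ => equidim (k := k) h0 hdim Z hZ) hdim h _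
    (DCoh.shriekAdj (X ↘ Spec (CommRingCat.of k)) h) OY hOY.some

end CurveDualModLib
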