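import Groth.Agent.CurveDualModLib.Dual
import Groth.Agent.DevissLib.Basic
import Groth.Agent.KFlatLib.StalkTensor
import Groth.Agent.KFlatLib.Stalk
import Groth.Agent.CurveSDLib.Apps
import Groth.Agent.CurveDualLib.Stalks
import Groth.Agent.CohCmpLib.RankOne
import Groth.Agent.CurvLib.EulerTensor
import Groth.Agent.SerreVanLib.TwTensor

/-!
# Twists of the dualizing module by generated invertible modules
-/

set_option autoImplicit false
set_option linter.style.haveILetI false
set_option backward.isDefEq.respectTransparency false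
set_option backward.isDefEq.respectTransparency.types false
set_option maxHeartbeats 1000000
set_option synthInstance.maxHeartbeats 200000

universe u

open CategoryTheory CategoryTheory.Limits AlgebraicGeometry DevissLib DerivedCategory MonoidalCategory

attribute [local instance] HasDerivedCategory.standard

noncomputable section

namespace CurveDualModLib

open Groth.Agent Groth.Agent.Dual3Lib

variable {k : Type u} [Field k] {X : Scheme.{u}} [X.Over (Spec (CommRingCat.of k))]

omit [X.Over (Spec (CommRingCat.of k))] in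
theorem free_stalk_ext {ι : Type u} (x : X) {B : ModuleCat.{u} (X.presheaf.stalk x)}
    (l l' : (St x).obj (SheafOfModules.free ι : X.Modules) ⟶ B)
    (h : ∀ i, (St x).map (SheafOfModules.ιFree i) ≫ l = (St x).map (SheafOfModules.ιFree i) ≫ l') : l = l' :=
  (isColimitOfPreserves (St x) (SheafOfModules.isColimitFreeCofan (R := X.ringCatSheaf) ι)).hom_ext
    fun ⟨i⟩ => h i

omit [X.Over (Spec (CommRingCat.of k))] in
theorem stalkTensor_map (M : X.Modules) {N N' : X.Modules} (g : N ⟶ N') (x : X)
    (a : (St x).obj M) (b : (St x).obj N) :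
    ((St x).map (((DCoh.tensorBi (X := X)).obj M).map g)).hom (KFlatLib.stalkTensorLin M N x (a ⊗ₜ b)) =
      KFlatLib.stalkTensorLin M N' x (a ⊗ₜ ((St x).map g).hom b) :=
  (congrArg (fun φ => φ.hom (a ⊗ₜ b)) (KFlatLib.stalkTensorIso_natural_right (M := M) x g)).symm

omit [X.Over (Spec (CommRingCat.of k))] in
theorem eqZeroOfStalks {A B : X.Modules} (φ : A ⟶ B) (h : ∀ x : X, ((St x).map φ).hom = 0) : φ = 0 := by
  apply Scheme.Modules.hom_ext
  intro V
  refine ConcreteCategory.hom_ext _ _ fun s => ?_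
  refine TopCat.Presheaf.section_ext ((QCohLib.toAbF X).obj B : TopCat.Sheaf AddCommGrpCat X.toTopCat) V _ _
    fun x hx => ?_
  have h1 : gm B x hx (φ.app V s) = gm B x hx 0 := by
    rw [← gm_app φ x hx s, h x, gm_zero]
    rfl
  exact h1

variable [IsProper (X ↘ Spec (CommRingCat.of k))] [HasExt.{u} X.Modules] {ω : X.Modules}
  {t : (uO X ⟶ (DCoh.inD X ω)⟦((1 : ℕ) : ℤ)⟧) →ₗ[k] k}
  (hωc : Coh.IsCoh ω)
  (h0 : Module.finrank k (Coh.HH X (Coh.structureModule X) 0) = 1)
  (ht : ∀ G : X.Modules, Coh.IsQCoh G → ∀ (j m : ℤ) (h : j + m = ((1 : ℕ) : ℤ)),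
    Function.Bijective (FieldDualLib.pairing t G j m h))

omit [HasExt.{u} X.Modules] in
include k hωc in
/-- If a section of `L` twists `ω` by an automorphism, it trivialises `L`. -/
theorem nonempty_iso_of_twist (hnt : ∀ x : X, Nontrivial ((St x).obj ω)) {L : X.Modules} (hL : PicF.IsInvertible L)
    (φ : KFlatLib.tens ω L ⟶ ω) (u : Coh.structureModule X ⟶ L)
    (hiso : IsIso ((CurveSDLib.unitR ω).hom ≫ ((DCoh.tensorBi (X := X)).obj ω).map u ≫ φ)) :
    Nonempty (L ≅ Coh.structureModule X) := by
  haveI : IsLocallyNoetherian X := LocallyOfFiniteType.isLocallyNoetherian (X ↘ Spec (CommRingCat.of k))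
  have hsurj : ∀ x : X, Function.Surjective ((St x).map u).hom := fun x => by
    obtain ⟨U, e, hxU, he⟩ := TwistLib.exists_genOn hL x
    let l : (St x).obj L := gm L x hxU e
    have hl : Function.Bijective fun c : X.presheaf.stalk x => c • l := he.genAt hxU
    haveI : IsNoetherian (X.presheaf.stalk x) ((St x).obj ω) := DevissLib.isNoetherian_stalk hωc x
    let one : (St x).obj (Coh.structureModule X) := gm (Coh.structureModule X) (U := ⊤) x trivial (1 : Γ(X, ⊤))
    obtain ⟨c, hc⟩ := hl.2 (((St x).map u).hom one)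
    by_cases hu : IsUnit c
    · intro y
      obtain ⟨d, hd⟩ := hl.2 y
      refine ⟨(d * ↑hu.unit⁻¹) • one, ?_⟩
      rw [map_smul, ← hc, ← hd]
      show (d * ↑hu.unit⁻¹) • c • l = d • l
      rw [smul_smul, mul_assoc, hu.val_inv_mul, mul_one]
    · exfalso
      haveI := hnt x
      let ψ := (CurveSDLib.unitR ω).hom ≫ ((DCoh.tensorBi (X := X)).obj ω).map u ≫ φ
      haveI : IsIso ψ := hiso
      have hψ : ∀ b : (St x).obj ω, ∃ a : (St x).obj ω, ((St x).map ψ).hom b = c • a := fun b => by
        obtain ⟨w, hw⟩ := (KFlatLib.stalkTensorLin_bijective ω (Coh.structureModule X) x).2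
          (((St x).map (CurveSDLib.unitR ω).hom).hom b)
        obtain ⟨b', rfl⟩ : ∃ b' : (St x).obj ω, b' ⊗ₜ one = w := by
          clear hw
          induction w using TensorProduct.induction_on with
          | zero => exact ⟨0, TensorProduct.zero_tmul _ _⟩
          | tmul a r =>
            obtain ⟨V, hV, q, rfl⟩ := exists_gm_eq (Coh.structureModule X) x r
            refine ⟨X.presheaf.germ V x hV q • a, ?_⟩
            rw [TensorProduct.smul_tmul]
            refine congrArg (a ⊗ₜ ·) ?_
            show X.presheaf.germ V x hV q • gm (Coh.structureModule X) (U := ⊤) x trivial (1 : Γ(X, ⊤)) = _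
            rw [← gm_map (Coh.structureModule X) (le_top : V ≤ ⊤) x hV, ← gm_smul]
            refine congrArg (gm (Coh.structureModule X) x hV) ?_
            show (show Γ(X, V) from q) * X.presheaf.map (homOfLE (le_top : V ≤ ⊤)).op (1 : Γ(X, ⊤)) = _
            rw [map_one, mul_one]
          | add _ _ h1 h2 =>
            obtain ⟨a, rfl⟩ := h1
            obtain ⟨a', rfl⟩ := h2
            exact ⟨a + a', TensorProduct.add_tmul _ _ _⟩
        refine ⟨((St x).map φ).hom (KFlatLib.stalkTensorLin ω L x (b' ⊗ₜ l)), ?_⟩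
        show ((St x).map ((CurveSDLib.unitR ω).hom ≫ _ ≫ φ)).hom b = _
        rw [Functor.map_comp, Functor.map_comp]
        show ((St x).map φ).hom (((St x).map (((DCoh.tensorBi (X := X)).obj ω).map u)).hom
          (((St x).map (CurveSDLib.unitR ω).hom).hom b)) = _
        rw [← hw, stalkTensor_map, ← hc, TensorProduct.tmul_smul, map_smul, map_smul]
      have htop : (⊤ : Submodule (X.presheaf.stalk x) ((St x).obj ω)) ≤
          IsLocalRing.maximalIdeal (X.presheaf.stalk x) • ⊤ := fun y _ => by
        obtain ⟨b, rfl⟩ := (ModuleCat.epi_iff_surjective ((St x).map ψ)).mp inferInstance y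
        obtain ⟨a, ha⟩ := hψ b
        rw [ha]
        exact Submodule.smul_mem_smul ((IsLocalRing.mem_maximalIdeal c).mpr hu) trivial
      exact top_ne_bot (α := Submodule (X.presheaf.stalk x) ((St x).obj ω))
        (Submodule.eq_bot_of_le_smul_of_le_jacobson_bot _ _ (IsNoetherian.noetherian _) htop
          (IsLocalRing.maximalIdeal_le_jacobson _))
  haveI : Epi u := Preadditive.epi_of_isZero_cokernel _
    (isZero_of_support_empty (Set.eq_empty_of_forall_notMem fun x => notMem_support_cokernel u x (hsurj x)))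
  haveI := CohCmpLib.isIso_of_epi_rank_one (CurvLib.locFree_of_isInvertible CurvLib.isInvertible_structureModule)
    (CurvLib.locFree_of_isInvertible hL) u
  exact ⟨(asIso u).symm⟩

include hωc h0 ht in
theorem subsingleton_h1_twist (hnt : ∀ x : X, Nontrivial ((St x).obj ω)) {L : X.Modules}
    (hL : PicF.IsInvertible L) (hgg : Curv2.IsGloballyGenerated L) (hne : IsEmpty (L ≅ Coh.structureModule X)) :
    Subsingleton (Coh.HH X (KFlatLib.tens ω L) 1) := by
  haveI : IsLocallyNoetherian X := LocallyOfFiniteType.isLocallyNoetherian (X ↘ Spec (CommRingCat.of k))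
  haveI : CompactSpace X := QuasiCompact.compactSpace_of_compactSpace (X ↘ Spec (CommRingCat.of k))
  haveI : AlgebraicGeometry.IsNoetherian X := ⟨⟩
  have hT : Coh.IsCoh (KFlatLib.tens ω L) := SerreVanLib.isCoh_tensor hωc hL
  by_contra hs
  obtain ⟨y, hy⟩ : ∃ y : uO X ⟶ (shiftFunctor (DCoh.D X) ((1 : ℕ) : ℤ)).obj (inH (KFlatLib.tens ω L)), y ≠ 0 := by
    by_contra hc
    simp only [not_exists, not_not] at hc
    exact hs ⟨fun a b => (FieldDualLib.homEquivHH (k := k) (KFlatLib.tens ω L) 1).symm.injective ((hc _).trans (hc _).symm)⟩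
  obtain ⟨ξ, hξ⟩ : ∃ ξ : Module.Dual k (uO X ⟶ (shiftFunctor (DCoh.D X) ((1 : ℕ) : ℤ)).obj (inH (KFlatLib.tens ω L))), ξ y ≠ 0 := by
    by_contra hc
    simp only [not_exists, not_not] at hc
    exact hy ((Module.forall_dual_apply_eq_zero_iff k y).mp hc)
  obtain ⟨e, he⟩ := (ht _ hT.1 0 ((1 : ℕ) : ℤ) (zero_add _)).2 ξ
  obtain ⟨φ, hφ⟩ := (singleFunctor X.Modules 0).map_surjective (e ≫ (zH ω).hom)
  have hφ0 : φ ≠ 0 := fun h => hξ (by
    have : e = 0 := by
      rw [← cancel_mono (zH ω).hom, zero_comp, ← hφ, h, Functor.map_zero]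
    rw [← he, this, map_zero]; rfl)
  obtain ⟨ι, p, hp⟩ := hgg
  refine hφ0 (eqZeroOfStalks φ fun x => LinearMap.ext fun z => ?_)
  obtain ⟨w, rfl⟩ := (KFlatLib.stalkTensorLin_bijective ω L x).2 z
  suffices hpure : ∀ a b, ((St x).map φ).hom (KFlatLib.stalkTensorLin ω L x (a ⊗ₜ b)) = 0 by
    induction w using TensorProduct.induction_on with
    | zero => simp
    | tmul a b => exact hpure a b
    | add _ _ h1 h2 => simp only [map_add, h1, h2]
  intro a b
  obtain ⟨b, rfl⟩ := (ModuleCat.epi_iff_surjective ((St x).map p)).mp inferInstance b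
  let l : (St x).obj (SheafOfModules.free ι : X.Modules) ⟶ (St x).obj ω :=
    (St x).map p ≫ ModuleCat.ofHom ((((St x).map φ).hom.comp (KFlatLib.stalkTensorLin ω L x)).comp
      (TensorProduct.mk _ _ _ a))
  have hl : l = 0 := free_stalk_ext x _ _ fun i => by
    rw [comp_zero]
    let u : Coh.structureModule X ⟶ L := SheafOfModules.ιFree i ≫ p
    have hψ : (CurveSDLib.unitR ω).hom ≫ ((DCoh.tensorBi (X := X)).obj ω).map u ≫ φ = 0 := by
      by_contra hψ
      exact hne.false (nonempty_iso_of_twist (k := k) hωc hnt hL φ u (isIso_of_ne_zero hωc.1 h0 ht _ hψ)).some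
    have hψ' : ((DCoh.tensorBi (X := X)).obj ω).map u ≫ φ = 0 := by
      rw [← cancel_epi (CurveSDLib.unitR ω).hom, comp_zero]; exact hψ
    refine ModuleCat.hom_ext (LinearMap.ext fun r => ?_)
    show ((St x).map φ).hom (KFlatLib.stalkTensorLin ω L x (a ⊗ₜ ((St x).map p).hom
      (((St x).map (SheafOfModules.ιFree i)).hom r))) = 0
    have : ((St x).map p).hom (((St x).map (SheafOfModules.ιFree i)).hom r) = ((St x).map u).hom r := by
      rw [show (St x).map u = (St x).map (SheafOfModules.ιFree i) ≫ (St x).map p from Functor.map_comp _ _ _]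
      rfl
    rw [this, ← stalkTensor_map]
    show ((St x).map (((DCoh.tensorBi (X := X)).obj ω).map u) ≫ (St x).map φ).hom _ = 0
    rw [← Functor.map_comp, hψ', Functor.map_zero]
    rfl
  exact congrArg (fun f => f.hom b) hl

end CurveDualModLib
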